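import Cfsg.Agent.Lib.FusionIndexP.Essential
import Cfsg.Agent.Lib.PGroup.AbelianMax
import Mathlib.GroupTheory.Nilpotent
import Mathlib.GroupTheory.IndexNormal

/-!
# `p`-groups with a unique abelian subgroup of index `p`
-/

set_option autoImplicit false

namespace CfsgLib.FusionIndexP

open Cfsg Cfsg.FusionSystem CfsgLib.Fusion
open scoped commutatorElement

variable {Ω : Type*} [Group Ω] {S A : Subgroup Ω} {p : ℕ} [Fact p.Prime]

/-- The centre of `S` as a subgroup of the ambient group. -/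
def centerIn (S : Subgroup Ω) : Subgroup Ω := S ⊓ Subgroup.centralizer (S : Set Ω)

/-- The second centre of `S` as a subgroup of the ambient group. -/
def secondCenterIn (S : Subgroup Ω) : Subgroup Ω := (upperCentralSeries S 2).map S.subtype

theorem mem_centerIn {g : Ω} : g ∈ centerIn S ↔ g ∈ S ∧ ∀ s ∈ S, s * g = g * s :=
  and_congr Iff.rfl Subgroup.mem_centralizer_iff

theorem mem_secondCenterIn {g : Ω} :
    g ∈ secondCenterIn S ↔ g ∈ S ∧ ∀ s ∈ S, g * s * g⁻¹ * s⁻¹ ∈ centerIn S := by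
  have key : ∀ y : S, y ∈ upperCentralSeries S 1 ↔ (y : Ω) ∈ centerIn S := fun y => by
    show y ∈ Subgroup.upperCentralSeries S 1 ↔ _
    rw [Subgroup.upperCentralSeries_one, Subgroup.mem_center_iff, mem_centerIn]
    exact ⟨fun h => ⟨y.2, fun s hs => congrArg Subtype.val (h ⟨s, hs⟩)⟩,
      fun h s => Subtype.ext (h.2 s s.2)⟩
  constructor
  · rintro ⟨y, hy, rfl⟩
    refine ⟨y.2, fun s hs => ?_⟩
    have := (key _).1 (mem_upperCentralSeries_succ_iff.1 hy ⟨s, hs⟩)
    simpa [commutatorElement_def] using this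
  · rintro ⟨hg, h⟩
    refine ⟨⟨g, hg⟩, mem_upperCentralSeries_succ_iff.2 fun s => (key _).2 ?_, rfl⟩
    simpa [commutatorElement_def] using h s s.2

/-- `S` is nonabelian and `A` is its unique abelian subgroup of index `p`. -/
structure Setup (p : ℕ) (S A : Subgroup Ω) : Prop where
  isPGroup : IsPGroup p S
  le : A ≤ S
  comm : ∀ a ∈ A, ∀ b ∈ A, a * b = b * a
  index : A.relIndex S = p
  nonabelian : ¬ IsMulCommutative S
  uniq : ∀ B : Subgroup Ω, B ≤ S → IsMulCommutative B → B.relIndex S = p → B = A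

variable [Finite S]

namespace Setup

theorem normal (h : Setup p S A) : (A.subgroupOf S).Normal := by
  refine Subgroup.normal_of_index_eq_minFac_card ?_
  obtain ⟨n, hn⟩ := IsPGroup.iff_card.1 h.isPGroup
  have hn0 : n ≠ 0 := by
    rintro rfl
    have h1 := (A.subgroupOf S).index_dvd_card
    rw [hn, pow_zero, show (A.subgroupOf S).index = p from h.index] at h1
    exact (Fact.out : p.Prime).not_dvd_one h1
  rw [show (A.subgroupOf S).index = p from h.index, hn, Nat.pow_minFac hn0,
    (Fact.out : p.Prime).minFac_eq]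

theorem conj_mem (h : Setup p S A) {s a : Ω} (hs : s ∈ S) (ha : a ∈ A) : s * a * s⁻¹ ∈ A :=
  h.normal.conj_mem ⟨a, h.le ha⟩ ha ⟨s, hs⟩

theorem relIndex_eq (h : Setup p S A) {H : Subgroup Ω} (hH : H ≤ S) (hne : ¬ H ≤ A) :
    A.relIndex H = p := by
  have hn := h.normal
  have h1 := Subgroup.relIndex_dvd_index_of_normal (A.subgroupOf S) (H.subgroupOf S)
  rw [Subgroup.relIndex_subgroupOf hH, show (A.subgroupOf S).index = p from h.index] at h1
  exact ((Fact.out : p.Prime).eq_one_or_self_of_dvd _ h1).resolve_left fun e =>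
    hne (Subgroup.relIndex_eq_one.1 e)

theorem sup_zpowers (h : Setup p S A) {x : Ω} (hx : x ∈ S) (hxA : x ∉ A) :
    A ⊔ Subgroup.zpowers x = S := by
  have hle : A ⊔ Subgroup.zpowers x ≤ S := sup_le h.le (Subgroup.zpowers_le.2 hx)
  refine le_antisymm hle (Subgroup.relIndex_eq_one.1 ?_)
  have h1 := Subgroup.relIndex_mul_relIndex A _ S le_sup_left hle
  rw [h.relIndex_eq hle fun e => hxA (e (Subgroup.mem_sup_right (Subgroup.mem_zpowers x))),
    h.index] at h1
  exact Nat.eq_of_mul_eq_mul_left (Fact.out : p.Prime).pos (h1.trans (mul_one p).symm)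

/-- A subgroup containing `A` and an element outside `A` contains `S`. -/
theorem le_of_mem (h : Setup p S A) {M : Subgroup Ω} {x : Ω} (hx : x ∈ S) (hxA : x ∉ A)
    (hA : A ≤ M) (hxM : x ∈ M) : S ≤ M :=
  h.sup_zpowers hx hxA ▸ sup_le hA (Subgroup.zpowers_le.2 hxM)

theorem mem_center_of_comm (h : Setup p S A) {x a : Ω} (hx : x ∈ S) (hxA : x ∉ A) (ha : a ∈ A)
    (hc : x * a = a * x) : a ∈ centerIn S := by
  refine mem_centerIn.2 ⟨h.le ha, fun s hs => ?_⟩
  have : S ≤ Subgroup.centralizer {a} := h.le_of_mem hx hxA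
    (fun b hb => Subgroup.mem_centralizer_singleton_iff.2 (h.comm b hb a ha))
    (Subgroup.mem_centralizer_singleton_iff.2 hc)
  exact Subgroup.mem_centralizer_singleton_iff.1 (this hs)

theorem center_le (h : Setup p S A) : centerIn S ≤ A := by
  intro z hz
  by_contra hzA
  obtain ⟨hzS, hzc⟩ := mem_centerIn.1 hz
  refine h.nonabelian ⟨⟨fun u v => Subtype.ext ?_⟩⟩
  have hA : ∀ a ∈ A, a ∈ centerIn S := fun a ha =>
    h.mem_center_of_comm hzS hzA ha (hzc a (h.le ha)).symm
  have hS : S ≤ centerIn S := h.le_of_mem hzS hzA hA hz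
  exact ((mem_centerIn.1 (hS u.2)).2 v v.2).symm

/-- `a ↦ [x, a]` on `A`. -/
def dHom (h : Setup p S A) {x : Ω} (hx : x ∈ S) : A →* A where
  toFun a := ⟨x * a * x⁻¹, h.conj_mem hx a.2⟩ * a⁻¹
  map_one' := Subtype.ext (by simp)
  map_mul' a b := by
    refine Subtype.ext ?_
    show x * (a * b : Ω) * x⁻¹ * (a * b : Ω)⁻¹ = x * a * x⁻¹ * (a : Ω)⁻¹ * (x * b * x⁻¹ * (b : Ω)⁻¹)
    have e : (x * b * x⁻¹ * (b : Ω)⁻¹) * (a : Ω)⁻¹ = (a : Ω)⁻¹ * (x * b * x⁻¹ * (b : Ω)⁻¹) :=
      h.comm _ (mul_mem (h.conj_mem hx b.2) (inv_mem b.2)) _ (inv_mem a.2)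
    rw [mul_assoc (x * a * x⁻¹), ← e]
    group

theorem dHom_coe (h : Setup p S A) {x : Ω} (hx : x ∈ S) (a : A) :
    (h.dHom hx a : Ω) = x * a * x⁻¹ * (a : Ω)⁻¹ := rfl

theorem dHom_eq_one_iff (h : Setup p S A) {x : Ω} (hx : x ∈ S) (hxA : x ∉ A) {a : A} :
    h.dHom hx a = 1 ↔ (a : Ω) ∈ centerIn S := by
  rw [Subtype.ext_iff, dHom_coe, Subgroup.coe_one, mul_inv_eq_one, mul_inv_eq_iff_eq_mul]
  exact ⟨fun e => h.mem_center_of_comm hx hxA a.2 e, fun e => (mem_centerIn.1 e).2 x hx⟩

/-- The subgroup of `A` mapped into the centre by `[x, ·]`. -/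
def midA (h : Setup p S A) {x : Ω} (hx : x ∈ S) : Subgroup Ω :=
  (((centerIn S).subgroupOf A).comap (h.dHom hx)).map A.subtype

theorem mem_midA (h : Setup p S A) {x : Ω} (hx : x ∈ S) {g : Ω} :
    g ∈ h.midA hx ↔ g ∈ A ∧ x * g * x⁻¹ * g⁻¹ ∈ centerIn S := by
  constructor
  · rintro ⟨a, ha, rfl⟩
    exact ⟨a.2, ha⟩
  · rintro ⟨hg, hd⟩
    exact ⟨⟨g, hg⟩, hd, rfl⟩

theorem midA_le (h : Setup p S A) {x : Ω} (hx : x ∈ S) : h.midA hx ≤ A := fun _ hg =>
  ((h.mem_midA hx).1 hg).1

theorem center_le_midA (h : Setup p S A) {x : Ω} (hx : x ∈ S) : centerIn S ≤ h.midA hx := by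
  intro z hz
  refine (h.mem_midA hx).2 ⟨h.center_le hz, ?_⟩
  rw [(mem_centerIn.1 hz).2 x hx, mul_inv_cancel_right, mul_inv_cancel]
  exact one_mem _

/-- The elements whose commutator with `g` is central form a subgroup. -/
def commSub (S : Subgroup Ω) (g : Ω) : Subgroup Ω where
  carrier := {s | s ∈ S ∧ s * g * s⁻¹ * g⁻¹ ∈ centerIn S}
  one_mem' := ⟨one_mem _, by simp⟩
  mul_mem' := by
    rintro a b ⟨ha, ha'⟩ ⟨hb, hb'⟩
    refine ⟨mul_mem ha hb, ?_⟩
    have e : a * b * g * (a * b)⁻¹ * g⁻¹ = (b * g * b⁻¹ * g⁻¹) * (a * g * a⁻¹ * g⁻¹) := by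
      have := (mem_centerIn.1 hb').2 a ha
      calc a * b * g * (a * b)⁻¹ * g⁻¹ = a * (b * g * b⁻¹ * g⁻¹) * (g * a⁻¹ * g⁻¹) := by group
        _ = (b * g * b⁻¹ * g⁻¹) * a * (g * a⁻¹ * g⁻¹) := by rw [this]
        _ = (b * g * b⁻¹ * g⁻¹) * (a * g * a⁻¹ * g⁻¹) := by group
    rw [e]
    exact mul_mem hb' ha'
  inv_mem' := by
    rintro a ⟨ha, ha'⟩
    refine ⟨inv_mem ha, ?_⟩
    have h1 := (mem_centerIn.1 (inv_mem ha')).2 a⁻¹ (inv_mem ha)
    have e : a⁻¹ * g * a⁻¹⁻¹ * g⁻¹ = (a * g * a⁻¹ * g⁻¹)⁻¹ := by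
      calc a⁻¹ * g * a⁻¹⁻¹ * g⁻¹ = a⁻¹ * (a * g * a⁻¹ * g⁻¹)⁻¹ * a := by group
        _ = (a * g * a⁻¹ * g⁻¹)⁻¹ * a⁻¹ * a := by rw [h1]
        _ = (a * g * a⁻¹ * g⁻¹)⁻¹ := by group
    rw [e]
    exact inv_mem ha'

theorem mem_commSub {g s : Ω} :
    s ∈ commSub S g ↔ s ∈ S ∧ s * g * s⁻¹ * g⁻¹ ∈ centerIn S := Iff.rfl

theorem le_commSub_of_mem (h : Setup p S A) {a : Ω} (ha : a ∈ A) : A ≤ commSub S a := fun b hb =>
  mem_commSub.2 ⟨h.le hb, by
    rw [h.comm b hb a ha, mul_inv_cancel_right, mul_inv_cancel]; exact one_mem _⟩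

theorem inv_comm_mem {g s : Ω} (h : g * s * g⁻¹ * s⁻¹ ∈ centerIn S) :
    s * g * s⁻¹ * g⁻¹ ∈ centerIn S := by
  simpa [mul_assoc] using inv_mem h

theorem secondCenter_inf (h : Setup p S A) {x : Ω} (hx : x ∈ S) (hxA : x ∉ A) :
    secondCenterIn S ⊓ A = h.midA hx := by
  ext g
  rw [Subgroup.mem_inf, mem_secondCenterIn, h.mem_midA hx]
  constructor
  · rintro ⟨⟨-, hc⟩, hgA⟩
    exact ⟨hgA, inv_comm_mem (hc x hx)⟩
  · rintro ⟨hgA, hd⟩
    refine ⟨⟨h.le hgA, fun s hs => ?_⟩, hgA⟩
    exact inv_comm_mem (mem_commSub.1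
      (h.le_of_mem hx hxA (h.le_commSub_of_mem hgA) (mem_commSub.2 ⟨hx, hd⟩) hs)).2

/-- If the second centre is not inside `A`, commutation with `x` maps `A` into the centre. -/
theorem midA_eq_of_not_le (h : Setup p S A) {x : Ω} (hx : x ∈ S)
    (hZ2 : ¬ secondCenterIn S ≤ A) : h.midA hx = A := by
  obtain ⟨z, hz, hzA⟩ := SetLike.not_le_iff_exists.1 hZ2
  obtain ⟨hzS, hzc⟩ := mem_secondCenterIn.1 hz
  refine le_antisymm (h.midA_le hx) fun a ha => (h.mem_midA hx).2 ⟨ha, ?_⟩
  exact (mem_commSub.1 (h.le_of_mem hzS hzA (h.le_commSub_of_mem ha)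
    (mem_commSub.2 ⟨hzS, hzc a (h.le ha)⟩) hx)).2

theorem secondCenter_eq (h : Setup p S A) {x : Ω} (hx : x ∈ S) (hxA : x ∉ A)
    (hZ2 : secondCenterIn S ≤ A) : secondCenterIn S = h.midA hx := by
  rw [← h.secondCenter_inf hx hxA, inf_eq_left.2 hZ2]

/-- `[N_S(P) : P] = [N_S(P) ∩ A : P ∩ A]`. -/
theorem relIndex_inf (h : Setup p S A) {P : Subgroup Ω} (hP : P ≤ S) (hne : ¬ P ≤ A) :
    (P ⊓ A).relIndex (normalizerIn S P ⊓ A) = P.relIndex (normalizerIn S P) := by
  set N := normalizerIn S P with hN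
  have hPN : P ≤ N := le_normalizerIn hP
  have h1 := Subgroup.relIndex_mul_relIndex (P ⊓ A) (N ⊓ A) N (inf_le_inf_right A hPN) inf_le_left
  have h2 := Subgroup.relIndex_mul_relIndex (P ⊓ A) P N inf_le_left hPN
  rw [inf_comm N A, Subgroup.inf_relIndex_right, h.relIndex_eq (normalizerIn_le S P)
    fun e => hne (hPN.trans e), inf_comm A N] at h1
  have h3 : (P ⊓ A).relIndex P = p := by
    rw [inf_comm, Subgroup.inf_relIndex_right, h.relIndex_eq hP hne]
  rw [h3] at h2
  refine Nat.eq_of_mul_eq_mul_left (Fact.out : p.Prime).pos ?_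
  rw [mul_comm p]
  exact h1.trans h2.symm

theorem not_le_of_isEssential (h : Setup p S A) {F : Cfsg.FusionSystem S} {P : Subgroup Ω}
    (hP : F.IsEssential p P) (hPA : P ≠ A) : ¬ P ≤ A := fun hle =>
  hPA (le_antisymm hle fun a ha => centralizerIn_le_of_isCentric hP.1
    (mem_centralizerIn.2 ⟨h.le ha, fun y hy => h.comm y (hle hy) a ha⟩))

/-- The two kinds of essential subgroups other than `A`, with what follows for `S`. -/
theorem essential_cases (h : Setup p S A) {F : Cfsg.FusionSystem S} (hF : F.IsSaturated p)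
    {P : Subgroup Ω} (hP : F.IsEssential p P) (hPA : P ≠ A) :
    ∃ x ∈ S, x ∉ A ∧ secondCenterIn S ≤ A ∧ (centerIn S).relIndex (secondCenterIn S) = p ∧
      P.relIndex (normalizerIn S P) = p ∧
      ((P = centerIn S ⊔ Subgroup.zpowers x ∧ IsMulCommutative P ∧ (centerIn S).relIndex P = p) ∨
        (P = secondCenterIn S ⊔ Subgroup.zpowers x ∧ ¬ IsMulCommutative P)) := by
  classical
  have hp := (Fact.out : p.Prime)
  have hS := h.isPGroup
  have hPS : P ≤ S := hP.1.1
  have hnle := h.not_le_of_isEssential hP hPA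
  have hcen := centralizerIn_le_of_isCentric hP.1
  have hZP : centerIn S ≤ P := fun z hz => hcen
    (mem_centralizerIn.2 ⟨hz.1, fun y hy => (mem_centerIn.1 hz).2 y (hPS hy)⟩)
  obtain ⟨hlt, hltN, hout⟩ := exists_outer_of_isEssential hS hF hP
  have : Finite P := finite_of_le hPS
  have hiP : (P ⊓ A).relIndex P = p := by
    rw [inf_comm, Subgroup.inf_relIndex_right, h.relIndex_eq hPS hnle]
  by_cases hab : IsMulCommutative P
  · obtain ⟨x, hxP, hxA⟩ := SetLike.not_le_iff_exists.1 hnle
    have hxS := hPS hxP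
    have hPA0 : P ⊓ A = centerIn S := le_antisymm
      (fun a ha => h.mem_center_of_comm hxS hxA ha.2
        (congrArg Subtype.val (hab.is_comm.comm (⟨x, hxP⟩ : P) ⟨a, ha.1⟩)))
      (le_inf hZP h.center_le)
    rw [hPA0] at hiP
    have hPeq : P = centerIn S ⊔ Subgroup.zpowers x := by
      have hle : centerIn S ⊔ Subgroup.zpowers x ≤ P := sup_le hZP (Subgroup.zpowers_le.2 hxP)
      refine le_antisymm (Subgroup.relIndex_eq_one.1 ?_) hle
      have h1 := Subgroup.relIndex_mul_relIndex (centerIn S) _ P le_sup_left hle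
      rw [hiP] at h1
      rcases hp.eq_one_or_self_of_dvd _ ⟨_, h1.symm⟩ with e | e
      · exact absurd (h.center_le (Subgroup.relIndex_eq_one.1 e
          (Subgroup.mem_sup_right (Subgroup.mem_zpowers x)))) hxA
      · rw [e] at h1
        exact Nat.eq_of_mul_eq_mul_left hp.pos (h1.trans (mul_one p).symm)
    have hA_comm : ∀ g ∈ normalizerIn S P, ∀ y ∈ P, y⁻¹ * (g * y * g⁻¹) ∈ centerIn S := by
      intro g hg y hy
      rw [← hPA0]
      refine ⟨P.mul_mem (P.inv_mem hy) (conj_mem_of_mem_normalizer hg.2 hy), ?_⟩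
      have hn := h.normal
      have : (⟨y, hPS hy⟩ : S)⁻¹ * (⟨g, hg.1⟩ * ⟨y, hPS hy⟩ * (⟨g, hg.1⟩ : S)⁻¹) ∈
          A.subgroupOf S := by
        have hcy : ∀ a b : S, a⁻¹ * (b * a * b⁻¹) ∈ A.subgroupOf S := by
          intro a b
          have : IsCyclic (S ⧸ A.subgroupOf S) :=
            isCyclic_of_prime_card (p := p) (by rw [← Subgroup.index_eq_card]; exact h.index)
          have := IsCyclic.isMulCommutative (α := S ⧸ A.subgroupOf S)
          refine (QuotientGroup.eq_one_iff _).1 ?_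
          show QuotientGroup.mk' (A.subgroupOf S) (a⁻¹ * (b * a * b⁻¹)) = 1
          rw [map_mul, map_mul, map_mul, map_inv, map_inv,
            mul_comm' (QuotientGroup.mk' (A.subgroupOf S) b) (QuotientGroup.mk' (A.subgroupOf S) a),
            mul_inv_cancel_right, inv_mul_cancel]
        exact hcy _ _
      exact this
    obtain ⟨W, l, l₁, -, -, hidx⟩ := exists_split_of_essential hS hF hP hZP hiP
      (fun g hg z hz => (mem_centerIn.1 hz).2 g hg.1) hA_comm
    have hNA : normalizerIn S P ⊓ A = h.midA hxS := by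
      ext a
      rw [h.mem_midA hxS]
      constructor
      · rintro ⟨haN, haA⟩
        refine ⟨haA, ?_⟩
        have h1 := hA_comm a haN x hxP
        rw [mem_centerIn] at h1 ⊢
        have e : x * a * x⁻¹ * a⁻¹ = x * (x⁻¹ * (a * x * a⁻¹))⁻¹ * x⁻¹ := by group
        rw [e, ← mem_centerIn]
        have hz := inv_mem (mem_centerIn.2 h1)
        rw [(mem_centerIn.1 hz).2 x hxS, mul_inv_cancel_right]
        exact hz
      · rintro ⟨haA, hd⟩
        refine ⟨⟨h.le haA, ?_⟩, haA⟩
        have hconj : ∀ b ∈ A, b * x * b⁻¹ * x⁻¹ ∈ centerIn S → ∀ y ∈ P, b * y * b⁻¹ ∈ P := by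
          intro b hb hbd
          have hle : P ≤ P.comap (MulAut.conj b).toMonoidHom := by
            conv_lhs => rw [hPeq]
            refine sup_le (fun z hz => ?_) (Subgroup.zpowers_le.2 ?_)
            · show b * z * b⁻¹ ∈ P
              rw [(mem_centerIn.1 hz).2 b (h.le hb), mul_inv_cancel_right]
              exact hZP hz
            · show b * x * b⁻¹ ∈ P
              have := P.mul_mem (hZP hbd) hxP
              rwa [inv_mul_cancel_right] at this
          exact fun y hy => hle hy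
        refine Subgroup.mem_normalizer_iff.2 fun y => ⟨fun hy => hconj a haA (inv_comm_mem hd) y hy,
          fun hy => ?_⟩
        have hmem : a⁻¹ ∈ h.midA hxS := inv_mem ((h.mem_midA hxS).2 ⟨haA, hd⟩)
        have := hconj a⁻¹ (inv_mem haA) (inv_comm_mem ((h.mem_midA hxS).1 hmem).2) _ hy
        simpa [mul_assoc] using this
    have hM : (centerIn S).relIndex (h.midA hxS) = p := by
      rw [← hNA, ← hPA0, h.relIndex_inf hPS hnle, hidx]
    have hZ2 : secondCenterIn S ≤ A := by
      by_contra hc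
      rw [h.midA_eq_of_not_le hxS hc] at hNA hM
      have hN : normalizerIn S P = S := le_antisymm (normalizerIn_le S P)
        (h.le_of_mem hxS hxA (inf_eq_right.1 hNA) (le_normalizerIn hPS hxP))
      rw [hN] at hidx
      exact hPA (h.uniq P hPS hab hidx)
    rw [← h.secondCenter_eq hxS hxA hZ2] at hM
    exact ⟨x, hxS, hxA, hZ2, hM, hidx, Or.inl ⟨hPeq, hab, hiP⟩⟩
  · set G := F.autGroup P with hG
    have : Finite (MulAut P) := finite_mulAut
    set P₀ := (A.subgroupOf P) with hP₀
    have hP₀i : P₀.index = p := h.relIndex_eq hPS hnle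
    have hP₀c : ∀ a ∈ P₀, ∀ b ∈ P₀, a * b = b * a := fun a ha b hb =>
      Subtype.ext (h.comm a ha b hb)
    have hP₀n : P₀.Normal := ⟨fun a ha g => h.conj_mem (hPS g.2) ha⟩
    have hcenter : ∀ z : P, z ∈ Subgroup.center P ↔ (z : Ω) ∈ centerIn S := by
      intro z
      rw [Subgroup.mem_center_iff]
      refine ⟨fun hz => ?_, fun hz u => Subtype.ext ((mem_centerIn.1 hz).2 u (hPS u.2))⟩
      obtain ⟨x, hxP, hxA⟩ := SetLike.not_le_iff_exists.1 hnle
      by_cases hzA : (z : Ω) ∈ A
      · exact h.mem_center_of_comm (hPS hxP) hxA hzA (congrArg Subtype.val (hz ⟨x, hxP⟩))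
      · exfalso
        refine hab ⟨⟨fun u v => ?_⟩⟩
        have htop : P₀ ⊔ Subgroup.zpowers z = ⊤ := by
          refine CfsgLib.PGroup.AbelianMax.sup_zpowers_eq_top P₀ ?_ z hzA
          rw [hP₀i]; exact hp
        have hle : (⊤ : Subgroup P) ≤ Subgroup.center P := by
          rw [← htop]
          refine sup_le (fun a ha => Subgroup.mem_center_iff.2 fun w => ?_)
            (Subgroup.zpowers_le.2 (Subgroup.mem_center_iff.2 hz))
          have : (⊤ : Subgroup P) ≤ Subgroup.centralizer {a} := by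
            rw [← htop]
            exact sup_le (fun b hb => Subgroup.mem_centralizer_singleton_iff.2 (hP₀c b hb a ha))
              (Subgroup.zpowers_le.2 (Subgroup.mem_centralizer_singleton_iff.2 (hz a).symm))
          exact Subgroup.mem_centralizer_singleton_iff.1 (this (Subgroup.mem_top w))
        exact (Subgroup.mem_center_iff.1 (hle (Subgroup.mem_top v)) u)
    set Z := Subgroup.center P with hZdef
    have hZP₀ : Z ≤ P₀ := fun z hz => h.center_le ((hcenter z).1 hz)
    let K : Subgroup G :=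
      { carrier := {g | (∀ z ∈ Z, (g : MulAut P) z = z) ∧ ∀ u, u⁻¹ * (g : MulAut P) u ∈ Z}
        one_mem' := ⟨fun z _ => rfl, fun u => by simp⟩
        mul_mem' := by
          rintro a b ⟨ha1, ha2⟩ ⟨hb1, hb2⟩
          refine ⟨fun z hz => (congrArg (a : MulAut P) (hb1 z hz)).trans (ha1 z hz), fun u => ?_⟩
          have := mul_mem (hb2 u) (ha2 ((b : MulAut P) u))
          rwa [mul_assoc, mul_inv_cancel_left] at this
        inv_mem' := by
          rintro a ⟨ha1, ha2⟩
          refine ⟨fun z hz => ?_, fun u => ?_⟩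
          · show (a : MulAut P)⁻¹ z = z
            conv_lhs => rw [← ha1 z hz, MulAut.inv_apply_self]
          · have := inv_mem (ha2 ((a : MulAut P)⁻¹ u))
            simpa using this }
    have hKn : K.Normal := by
      refine ⟨fun k hk γ => ⟨fun z hz => ?_, fun u => ?_⟩⟩
      · show (γ : MulAut P) ((k : MulAut P) ((γ : MulAut P)⁻¹ z)) = z
        have hz' : (γ : MulAut P)⁻¹ z ∈ Z := Subgroup.mem_center_iff.2 fun u => by
          apply (γ : MulAut P).injective
          rw [map_mul, map_mul, MulAut.apply_inv_self]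
          exact Subgroup.mem_center_iff.1 hz _
        rw [hk.1 _ hz', MulAut.apply_inv_self]
      · have hd := hk.2 ((γ : MulAut P)⁻¹ u)
        have : (γ : MulAut P) (((γ : MulAut P)⁻¹ u)⁻¹ * (k : MulAut P) ((γ : MulAut P)⁻¹ u)) ∈ Z :=
          Subgroup.mem_center_iff.2 fun w => by
            obtain ⟨w', rfl⟩ := (γ : MulAut P).surjective w
            rw [← map_mul, ← map_mul, Subgroup.mem_center_iff.1 hd w']
        rw [map_mul, map_inv, MulAut.apply_inv_self] at this
        exact this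
    have hKp : IsPGroup p K := by
      obtain ⟨N, hN⟩ := IsPGroup.iff_card.1 (hS.to_le hPS)
      rintro ⟨⟨g, hgG⟩, hg1, hg2⟩
      refine ⟨N, Subtype.ext (Subtype.ext (MulEquiv.ext fun u => ?_))⟩
      have key : ∀ n : ℕ, (g ^ n) u = u * (u⁻¹ * g u) ^ n := by
        intro n
        induction n with
        | zero => simp
        | succ n ih =>
          rw [pow_succ', MulAut.mul_apply, ih, map_mul, map_pow,
            show g (u⁻¹ * g u) = u⁻¹ * g u from hg1 _ (hg2 u), pow_succ', ← mul_assoc u,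
            mul_inv_cancel_left]
      show (g ^ p ^ N) u = u
      rw [key, ← hN, pow_card_eq_one', mul_one]
    have hKinn : ∀ k : G, k ∈ K → (k : MulAut P) ∈ Cfsg.Inn P := fun k hk => by
      rw [← (isRadical_of_isEssential hS hF hP).2]
      exact ⟨k, CfsgLib.Solvable.le_pCore hKn hKp hk, rfl⟩
    obtain ⟨γ, hγ, hγP⟩ : ∃ γ ∈ G, P₀.map γ.toMonoidHom ≠ P₀ := by
      by_contra hc
      push Not at hc
      have hinv : ∀ γ ∈ G, ∀ a ∈ P₀, γ a ∈ P₀ := fun γ hγ a ha => (hc γ hγ).le ⟨a, ha, rfl⟩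
      let K' : Subgroup G :=
        { carrier := {g | (∀ a ∈ P₀, (g : MulAut P) a = a) ∧ ∀ u, u⁻¹ * (g : MulAut P) u ∈ P₀}
          one_mem' := ⟨fun z _ => rfl, fun u => by simp⟩
          mul_mem' := by
            rintro a b ⟨ha1, ha2⟩ ⟨hb1, hb2⟩
            refine ⟨fun z hz => (congrArg (a : MulAut P) (hb1 z hz)).trans (ha1 z hz), fun u => ?_⟩
            have := mul_mem (hb2 u) (ha2 ((b : MulAut P) u))
            rwa [mul_assoc, mul_inv_cancel_left] at this
          inv_mem' := by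
            rintro a ⟨ha1, ha2⟩
            refine ⟨fun z hz => ?_, fun u => ?_⟩
            · show (a : MulAut P)⁻¹ z = z
              conv_lhs => rw [← ha1 z hz, MulAut.inv_apply_self]
            · have := inv_mem (ha2 ((a : MulAut P)⁻¹ u))
              simpa using this }
      have hK'n : K'.Normal := by
        refine ⟨fun k hk δ => ⟨fun z hz => ?_, fun u => ?_⟩⟩
        · show (δ : MulAut P) ((k : MulAut P) ((δ : MulAut P)⁻¹ z)) = z
          rw [hk.1 _ (hinv _ (inv_mem δ.2) z hz), MulAut.apply_inv_self]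
        · have := hinv _ δ.2 _ (hk.2 ((δ : MulAut P)⁻¹ u))
          rw [map_mul, map_inv, MulAut.apply_inv_self] at this
          exact this
      have hK'p : IsPGroup p K' := by
        obtain ⟨N, hN⟩ := IsPGroup.iff_card.1 (hS.to_le hPS)
        rintro ⟨⟨g, hgG⟩, hg1, hg2⟩
        refine ⟨N, Subtype.ext (Subtype.ext (MulEquiv.ext fun u => ?_))⟩
        have key : ∀ n : ℕ, (g ^ n) u = u * (u⁻¹ * g u) ^ n := by
          intro n
          induction n with
          | zero => simp
          | succ n ih =>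
            rw [pow_succ', MulAut.mul_apply, ih, map_mul, map_pow,
              show g (u⁻¹ * g u) = u⁻¹ * g u from hg1 _ (hg2 u), pow_succ', ← mul_assoc u,
              mul_inv_cancel_left]
        show (g ^ p ^ N) u = u
        rw [key, ← hN, pow_card_eq_one', mul_one]
      obtain ⟨a, ⟨haN, haA⟩, haP⟩ : ∃ a ∈ normalizerIn S P ⊓ A, a ∉ P ⊓ A := by
        by_contra hcon
        push Not at hcon
        have h1 := Subgroup.relIndex_eq_one.2 (fun a ha => hcon a ha)
        rw [h.relIndex_inf hPS hnle, Subgroup.relIndex_eq_one] at h1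
        exact absurd h1 (not_le_of_gt hltN)
      have hmem : (⟨conjAut P a haN.2, autInducedBy_le_autGroup F hPS
          (conjAut_mem_autInducedBy haN.1 haN.2)⟩ : G) ∈ K' := by
        refine ⟨fun z hz => Subtype.ext ?_, fun u => ?_⟩
        · show a * z * a⁻¹ = z
          rw [h.comm a haA z hz, mul_inv_cancel_right]
        · show (u : Ω)⁻¹ * (a * u * a⁻¹) ∈ A
          have h1 := h.conj_mem (S.inv_mem (hPS u.2)) haA
          rw [inv_inv] at h1
          have := A.mul_mem h1 (A.inv_mem haA)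
          simpa [mul_assoc] using this
      refine hout a haN.2 haN.1 (fun e => haP ⟨e, haA⟩) ?_
      rw [← (isRadical_of_isEssential hS hF hP).2]
      exact ⟨_, CfsgLib.Solvable.le_pCore hK'n hK'p hmem, rfl⟩
    set P₁ := P₀.map γ.toMonoidHom with hP₁
    have hP₁i : P₁.index = p := (Subgroup.index_map_equiv P₀ γ).trans hP₀i
    have hP₁c : ∀ a ∈ P₁, ∀ b ∈ P₁, a * b = b * a := by
      rintro _ ⟨a, ha, rfl⟩ _ ⟨b, hb, rfl⟩
      rw [← map_mul, ← map_mul, hP₀c a ha b hb]
    have hP₁n : P₁.Normal := hP₀n.map γ.toMonoidHom γ.surjective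
    have hP₁ne : ¬ P₁ ≤ P₀ := fun hle => hγP (Subgroup.eq_of_le_of_card_ge hle
      (le_of_eq (Subgroup.card_map_of_injective (f := γ.toMonoidHom) γ.injective).symm))
    obtain ⟨x, hxP₁, hxP₀⟩ := SetLike.not_le_iff_exists.1 hP₁ne
    have hxA : (x : Ω) ∉ A := hxP₀
    have hxS : (x : Ω) ∈ S := hPS x.2
    have htop : P₀ ⊔ Subgroup.zpowers x = ⊤ :=
      CfsgLib.PGroup.AbelianMax.sup_zpowers_eq_top P₀ (by rw [hP₀i]; exact hp) x hxP₀
    have hDZ : P₀ ⊓ P₁ = Z := by
      have h1 : P₀ ⊓ P₁ ≤ Z := by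
        intro d hd
        refine Subgroup.mem_center_iff.2 fun w => ?_
        have : (⊤ : Subgroup P) ≤ Subgroup.centralizer {d} := by
          rw [← htop]
          exact sup_le (fun b hb => Subgroup.mem_centralizer_singleton_iff.2 (hP₀c b hb d hd.1))
            (Subgroup.zpowers_le.2 (Subgroup.mem_centralizer_singleton_iff.2
              (hP₁c x hxP₁ d hd.2)))
        exact Subgroup.mem_centralizer_singleton_iff.1 (this (Subgroup.mem_top w))
      refine le_antisymm h1 (Subgroup.relIndex_eq_one.1 ?_)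
      have h2 := Subgroup.relIndex_mul_relIndex _ _ _ h1 hZP₀
      rw [inf_comm, Subgroup.inf_relIndex_right] at h2
      have h3 : P₁.relIndex P₀ = p := by
        have := Subgroup.relIndex_dvd_index_of_normal P₁ P₀
        rw [hP₁i] at this
        refine (hp.eq_one_or_self_of_dvd _ this).resolve_left fun e => hγP ?_
        exact (Subgroup.eq_of_le_of_card_ge (Subgroup.relIndex_eq_one.1 e)
          (le_of_eq (Subgroup.card_map_of_injective (f := γ.toMonoidHom) γ.injective))).symm
      rw [h3] at h2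
      rcases hp.eq_one_or_self_of_dvd _ ⟨_, h2.symm⟩ with e | e
      · rwa [inf_comm]
      · exfalso
        rw [e] at h2
        have h4 : Z.relIndex P₀ = 1 := Nat.eq_of_mul_eq_mul_left hp.pos (h2.trans (mul_one p).symm)
        refine hab ⟨⟨fun u v => ?_⟩⟩
        have hle : (⊤ : Subgroup P) ≤ Z := by
          rw [← htop]
          refine sup_le (Subgroup.relIndex_eq_one.1 h4) (Subgroup.zpowers_le.2 ?_)
          refine Subgroup.mem_center_iff.2 fun w => ?_
          have : (⊤ : Subgroup P) ≤ Subgroup.centralizer {x} := by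
            rw [← htop]
            exact sup_le (fun b hb => Subgroup.mem_centralizer_singleton_iff.2
              ((Subgroup.mem_center_iff.1 (Subgroup.relIndex_eq_one.1 h4 hb) x).symm))
              (Subgroup.zpowers_le.2 (Subgroup.mem_centralizer_singleton_iff.2 rfl))
          exact Subgroup.mem_centralizer_singleton_iff.1 (this (Subgroup.mem_top w))
        exact (Subgroup.mem_center_iff.1 (hle (Subgroup.mem_top v)) u)
    have hZi : Z.relIndex P₀ = p := by
      rw [← hDZ, inf_comm, Subgroup.inf_relIndex_right]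
      have := Subgroup.relIndex_dvd_index_of_normal P₁ P₀
      rw [hP₁i] at this
      refine (hp.eq_one_or_self_of_dvd _ this).resolve_left fun e => hγP ?_
      exact (Subgroup.eq_of_le_of_card_ge (Subgroup.relIndex_eq_one.1 e)
        (le_of_eq (Subgroup.card_map_of_injective (f := γ.toMonoidHom) γ.injective))).symm
    have hP₀M : P ⊓ A = h.midA hxS := by
      refine le_antisymm (fun a ha => (h.mem_midA hxS).2 ⟨ha.2, ?_⟩) fun a ha => ?_
      · refine (hcenter (x * ⟨a, ha.1⟩ * x⁻¹ * ⟨a, ha.1⟩⁻¹)).1 (hDZ ▸ ⟨?_, ?_⟩)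
        · exact P₀.mul_mem (hP₀n.conj_mem _ (show (⟨a, ha.1⟩ : P) ∈ P₀ from ha.2) x)
            (P₀.inv_mem (show (⟨a, ha.1⟩ : P) ∈ P₀ from ha.2))
        · have := P₁.mul_mem hxP₁ (hP₁n.conj_mem _ (P₁.inv_mem hxP₁) ⟨a, ha.1⟩)
          simpa [mul_assoc] using this
      · obtain ⟨haA, hd⟩ := (h.mem_midA hxS).1 ha
        refine ⟨?_, haA⟩
        have hconj : ∀ b ∈ A, b * (x : Ω) * b⁻¹ * (x : Ω)⁻¹ ∈ centerIn S →
            ∀ y ∈ P, b * y * b⁻¹ ∈ P := by
          intro b hb hbd y hy
          have hle : (⊤ : Subgroup P) ≤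
              (P.comap (MulAut.conj b).toMonoidHom).subgroupOf P := by
            rw [← htop]
            refine sup_le (fun z hz => ?_) (Subgroup.zpowers_le.2 ?_)
            · show b * (z : Ω) * b⁻¹ ∈ P
              rw [h.comm b hb z hz, mul_inv_cancel_right]
              exact z.2
            · show b * (x : Ω) * b⁻¹ ∈ P
              have := P.mul_mem (hZP hbd) x.2
              rwa [inv_mul_cancel_right] at this
          exact hle (Subgroup.mem_top ⟨y, hy⟩)
        have haN : a ∈ Subgroup.normalizer (P : Set Ω) := by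
          refine Subgroup.mem_normalizer_iff.2 fun y =>
            ⟨fun hy => hconj a haA (inv_comm_mem hd) y hy, fun hy => ?_⟩
          have hmem : a⁻¹ ∈ h.midA hxS := inv_mem ha
          have := hconj a⁻¹ (inv_mem haA) (inv_comm_mem ((h.mem_midA hxS).1 hmem).2) _ hy
          simpa [mul_assoc] using this
        by_contra haP
        refine hout a haN (h.le haA) haP (hKinn ⟨conjAut P a haN,
          autInducedBy_le_autGroup F hPS (conjAut_mem_autInducedBy (h.le haA) haN)⟩ ⟨fun z hz => ?_,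
            fun u => ?_⟩)
        · refine Subtype.ext ?_
          show a * z * a⁻¹ = z
          rw [h.comm a haA z (hZP₀ hz), mul_inv_cancel_right]
        · let M : Subgroup P :=
            { carrier := {u | ((u : Ω))⁻¹ * (a * u * a⁻¹) ∈ centerIn S}
              one_mem' := by simp
              mul_mem' := fun {v w} hv hw => by
                have hv' : ((v : Ω))⁻¹ * (a * v * a⁻¹) ∈ centerIn S := hv
                have := mul_mem hv' hw
                have e : ((v * w : P) : Ω)⁻¹ * (a * (v * w : P) * a⁻¹) =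
                    ((v : Ω))⁻¹ * (a * v * a⁻¹) * ((w : Ω)⁻¹ * (a * w * a⁻¹)) := by
                  rw [Subgroup.coe_mul]
                  calc ((v : Ω) * w)⁻¹ * (a * (v * w) * a⁻¹)
                      = (w : Ω)⁻¹ * (((v : Ω))⁻¹ * (a * v * a⁻¹)) * (a * w * a⁻¹) := by group
                    _ = ((v : Ω))⁻¹ * (a * v * a⁻¹) * (w : Ω)⁻¹ * (a * w * a⁻¹) := by
                        rw [(mem_centerIn.1 hv').2 _ (S.inv_mem (hPS w.2))]
                    _ = _ := by group
                show ((v * w : P) : Ω)⁻¹ * (a * (v * w : P) * a⁻¹) ∈ centerIn S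
                rw [e]
                exact this
              inv_mem' := fun {v} hv => by
                have hv' : ((v : Ω))⁻¹ * (a * v * a⁻¹) ∈ centerIn S := hv
                have hz := inv_mem hv'
                have e : ((v⁻¹ : P) : Ω)⁻¹ * (a * (v⁻¹ : P) * a⁻¹) =
                    (((v : Ω))⁻¹ * (a * v * a⁻¹))⁻¹ := by
                  rw [Subgroup.coe_inv, inv_inv]
                  calc (v : Ω) * (a * (v : Ω)⁻¹ * a⁻¹)
                      = (v : Ω) * (((v : Ω))⁻¹ * (a * v * a⁻¹))⁻¹ * (v : Ω)⁻¹ := by group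
                    _ = _ := by rw [(mem_centerIn.1 hz).2 _ (hPS v.2), mul_inv_cancel_right]
                show ((v⁻¹ : P) : Ω)⁻¹ * (a * (v⁻¹ : P) * a⁻¹) ∈ centerIn S
                rw [e]
                exact hz }
          refine (hcenter _).2 ((show (⊤ : Subgroup P) ≤ M by
            rw [← htop]
            refine sup_le (fun v hv => ?_) (Subgroup.zpowers_le.2 ?_)
            · show ((v : Ω))⁻¹ * (a * v * a⁻¹) ∈ centerIn S
              rw [h.comm a haA v hv, mul_inv_cancel_right, inv_mul_cancel]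
              exact one_mem _
            · show ((x : Ω))⁻¹ * (a * x * a⁻¹) ∈ centerIn S
              have hc := inv_comm_mem hd
              have e : ((x : Ω))⁻¹ * (a * x * a⁻¹) =
                  (x : Ω)⁻¹ * (a * x * a⁻¹ * (x : Ω)⁻¹) * x := by group
              rw [e, (mem_centerIn.1 hc).2 _ (S.inv_mem hxS), inv_mul_cancel_right]
              exact hc) (Subgroup.mem_top u))
    have hcast : (P ⊓ A).subgroupOf P = P₀ := by
      rw [Subgroup.inf_subgroupOf_left]
    have hZrel : (centerIn S).relIndex (h.midA hxS) = p := by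
      rw [← hP₀M]
      have e := Subgroup.relIndex_subgroupOf (H := centerIn S) (inf_le_left : P ⊓ A ≤ P)
      rw [hcast, show (centerIn S).subgroupOf P = Z from Subgroup.ext fun z => (hcenter z).symm,
        hZi] at e
      exact e.symm
    have hZ2 : secondCenterIn S ≤ A := by
      by_contra hc
      have e := h.midA_eq_of_not_le hxS hc
      rw [← hP₀M] at e
      have : S ≤ P := h.le_of_mem hxS hxA (inf_eq_right.1 e) x.2
      exact hlt.ne (le_antisymm hPS this)
    have hM2 := h.secondCenter_eq hxS hxA hZ2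
    have hidx : P.relIndex (normalizerIn S P) = p := by
      have hdvd : P.relIndex (normalizerIn S P) ∣ p := by
        rw [← h.relIndex_inf hPS hnle, hP₀M]
        set NA := normalizerIn S P ⊓ A with hNA
        have hNAle : NA ≤ A := inf_le_right
        let d : NA →* A := (h.dHom hxS).comp (Subgroup.inclusion hNAle)
        have hd : ∀ a : NA, (d a : Ω) ∈ h.midA hxS := by
          intro a
          rw [← hP₀M]
          refine ⟨?_, (d a).2⟩
          show (x : Ω) * a * (x : Ω)⁻¹ * (a : Ω)⁻¹ ∈ P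
          have hcm : (a : Ω) * (x : Ω)⁻¹ * (a : Ω)⁻¹ ∈ P :=
            conj_mem_of_mem_normalizer a.2.1.2 (P.inv_mem x.2)
          have := P.mul_mem x.2 hcm
          simpa [mul_assoc] using this
        let d' : NA →* h.midA hxS := (A.subtype.comp d).codRestrict _ hd
        have hn : ((centerIn S).subgroupOf (h.midA hxS)).Normal :=
          ⟨fun z hz g => by
            show (g : Ω) * z * (g : Ω)⁻¹ ∈ centerIn S
            have hz' : (z : Ω) ∈ centerIn S := hz
            rw [(mem_centerIn.1 hz').2 g (h.le (h.midA_le hxS g.2)), mul_inv_cancel_right]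
            exact hz'⟩
        have hker : ((QuotientGroup.mk' ((centerIn S).subgroupOf (h.midA hxS))).comp d').ker =
            (h.midA hxS).subgroupOf NA := by
          ext a
          rw [MonoidHom.mem_ker, MonoidHom.comp_apply, QuotientGroup.mk'_apply,
            QuotientGroup.eq_one_iff, Subgroup.mem_subgroupOf, Subgroup.mem_subgroupOf,
            h.mem_midA hxS]
          exact ⟨fun e => ⟨hNAle a.2, e⟩, fun e => e.2⟩
        show ((h.midA hxS).subgroupOf NA).index ∣ p
        rw [← hker, Subgroup.index_ker]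
        have := Subgroup.card_subgroup_dvd_card
          ((QuotientGroup.mk' ((centerIn S).subgroupOf (h.midA hxS))).comp d').range
        rwa [← Subgroup.index_eq_card, show ((centerIn S).subgroupOf (h.midA hxS)).index = p from
          hZrel] at this
      exact (hp.eq_one_or_self_of_dvd _ hdvd).resolve_left fun e =>
        absurd (Subgroup.relIndex_eq_one.1 e) (not_le_of_gt hltN)
    rw [← hM2] at hZrel
    refine ⟨x, hxS, hxA, hZ2, hZrel, hidx, Or.inr ⟨?_, hab⟩⟩
    have hle : secondCenterIn S ⊔ Subgroup.zpowers (x : Ω) ≤ P := by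
      rw [hM2, ← hP₀M]
      exact sup_le inf_le_left (Subgroup.zpowers_le.2 x.2)
    refine le_antisymm (fun y hy => ?_) hle
    have hmem : (⊤ : Subgroup P) ≤ (secondCenterIn S ⊔ Subgroup.zpowers (x : Ω)).subgroupOf P := by
      rw [← htop]
      refine sup_le (fun v hv => Subgroup.mem_subgroupOf.2 (Subgroup.mem_sup_left ?_))
        (Subgroup.zpowers_le.2 (Subgroup.mem_subgroupOf.2
          (Subgroup.mem_sup_right (Subgroup.mem_zpowers _))))
      rw [hM2, ← hP₀M]
      exact ⟨v.2, hv⟩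
    exact hmem (Subgroup.mem_top ⟨y, hy⟩)

end Setup

end CfsgLib.FusionIndexP
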