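import Cfsg.Agent.Lib.FusionIndexP.AbelianIndex
import Cfsg.Agent.Lib.FusionAut.Coprime
import Mathlib.GroupTheory.Commutator.Basic

/-!
# Automorphisms of `Z(S)` in a saturated system, and the reflection of an abelian essential subgroup
-/

set_option autoImplicit false

namespace CfsgLib.FusionIndexP

open Cfsg Cfsg.FusionSystem CfsgLib.Fusion
open scoped commutatorElement IsMulCommutative

variable {Ω : Type*} [Group Ω] {S : Subgroup Ω} {p : ℕ} [Fact p.Prime] {F : Cfsg.FusionSystem S}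

theorem centerIn_le (S : Subgroup Ω) : centerIn S ≤ S := inf_le_left

theorem normalizerIn_center (S : Subgroup Ω) : normalizerIn S (centerIn S) = S := by
  refine inf_eq_left.2 fun g hg => Subgroup.mem_normalizer_iff.2 fun n => ⟨fun hn => ?_, fun hn => ?_⟩
  · rw [(mem_centerIn.1 hn).2 g hg, mul_inv_cancel_right]
    exact hn
  · have h1 := (mem_centerIn.1 hn).2 g⁻¹ (S.inv_mem hg)
    have e : n = g⁻¹ * (g * n * g⁻¹) * g := by group
    rw [e, h1, inv_mul_cancel_right]
    exact hn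

theorem isFullyNormalized_center [Finite S] (F : Cfsg.FusionSystem S) :
    F.IsFullyNormalized (centerIn S) := by
  refine ⟨centerIn_le S, fun Q _ => ?_⟩
  rw [normalizerIn_center]
  exact Subgroup.card_le_of_le (normalizerIn_le S Q)

theorem coprime_autGroup_center [Finite S] (hS : IsPGroup p S) (hF : F.IsSaturated p) :
    (Nat.card (F.autGroup (centerIn S))).Coprime p := by
  have : Finite (centerIn S) := finite_of_le (centerIn_le S)
  have : Finite (MulAut (centerIn S)) := finite_mulAut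
  obtain ⟨-, T, hT⟩ := isFullyAutomized_of_isFullyNormalized hS hF (isFullyNormalized_center F)
  have hbot : (autInducedBy S (centerIn S)).subgroupOf (F.autGroup (centerIn S)) = ⊥ := by
    refine (Subgroup.eq_bot_iff_forall _).2 fun a ha => Subtype.ext ?_
    obtain ⟨g, hg, hgS, e⟩ := exists_eq_conjAut (Subgroup.mem_subgroupOf.1 ha)
    rw [e]
    refine MulEquiv.ext fun z => Subtype.ext ?_
    show g * (z : Ω) * g⁻¹ = z
    rw [(mem_centerIn.1 z.2).2 g hgS, mul_inv_cancel_right]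
  have h1 : ¬ p ∣ (T : Subgroup (F.autGroup (centerIn S))).index := T.not_dvd_index
  rw [hT, hbot, Subgroup.index_bot] at h1
  exact ((Fact.out : p.Prime).coprime_iff_not_dvd.2 h1).symm

/-- An automorphism of `S` maps the centre to itself. -/
theorem aut_mem_center {σ : MulAut S} {z : S} (hz : (z : Ω) ∈ centerIn S) :
    ((σ z : S) : Ω) ∈ centerIn S := by
  refine mem_centerIn.2 ⟨(σ z).2, fun s hs => ?_⟩
  obtain ⟨s', hs'⟩ := σ.surjective ⟨s, hs⟩
  have e : σ (s' * z) = σ (z * s') :=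
    congrArg σ (Subtype.ext ((mem_centerIn.1 hz).2 s' s'.2))
  rw [map_mul, map_mul, hs'] at e
  exact congrArg Subtype.val e

/-- An automorphism of `S` maps the commutator subgroup to itself. -/
theorem aut_mem_commutator {σ : MulAut S} {z : S}
    (hz : (z : Ω) ∈ (commutator S).map S.subtype) :
    ((σ z : S) : Ω) ∈ (commutator S).map S.subtype := by
  obtain ⟨c, hc, e⟩ := hz
  obtain rfl : c = z := Subtype.ext e
  refine ⟨σ c, ?_, rfl⟩
  have hmap : (commutator S).map σ.toMonoidHom = commutator S := by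
    rw [commutator_def, Subgroup.map_commutator, Subgroup.map_top_of_surjective _ σ.surjective]
  exact hmap.le ⟨c, hc, rfl⟩

theorem exists_top_extension [Finite S] (hS : IsPGroup p S) (hF : F.IsSaturated p)
    {α : MulAut (centerIn S)} (hα : α ∈ F.autGroup (centerIn S)) :
    ∃ σ ∈ F.autGroup S, ∀ z : centerIn S, ((σ ⟨z, centerIn_le S z.2⟩ : S) : Ω) = α z := by
  have : Finite (centerIn S) := finite_of_le (centerIn_le S)
  have hR := isReceptive_of_isFullyNormalized hS hF (isFullyNormalized_center F)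
  obtain ⟨ψ, hψ, hag⟩ := hR.2 _ _ ((mem_autGroup_iff_hom (centerIn_le S)).1 hα)
    (range_subtype_comp α)
  have hle : S ≤ extender S (centerIn S) ((centerIn S).subtype.comp α.toMonoidHom) := fun g hg =>
    centralizerIn_le_extender _ (mem_centralizerIn.2 ⟨hg, fun y hy =>
      ((mem_centerIn.1 hy).2 g hg).symm⟩)
  obtain ⟨σ, hσ, hσx⟩ := exists_aut (restrict_mem hψ hle)
    (range_eq_of_le (hom_inj (restrict_mem hψ hle)) (map_mem (restrict_mem hψ hle)))
  refine ⟨σ, hσ, fun z => (hσx _).trans (hag z z.2 (hle (centerIn_le S z.2)))⟩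

theorem exists_restrict [Finite S] {P : Subgroup Ω} {φ : P →* Ω} (hφ : φ ∈ F.Hom P)
    (hZP : centerIn S ≤ P) (hmap : ∀ x : P, (x : Ω) ∈ centerIn S → φ x ∈ centerIn S) :
    ∃ α ∈ F.autGroup (centerIn S), ∀ z : centerIn S, (α z : Ω) = φ ⟨z, hZP z.2⟩ := by
  have : Finite (centerIn S) := finite_of_le (centerIn_le S)
  exact exists_aut (restrict_mem hφ hZP)
    (range_eq_of_le (hom_inj (restrict_mem hφ hZP)) fun z => hmap _ z.2)

theorem mem_commutator_of_mem_autGroup [Finite S] (hS : IsPGroup p S) (hF : F.IsSaturated p)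
    {α : MulAut (centerIn S)} (hα : α ∈ F.autGroup (centerIn S)) {z : centerIn S}
    (hz : (z : Ω) ∈ (commutator S).map S.subtype) :
    (α z : Ω) ∈ (commutator S).map S.subtype := by
  obtain ⟨σ, -, hσ⟩ := exists_top_extension hS hF hα
  rw [← hσ z]
  exact aut_mem_commutator hz

/-- A reflection on `Z(S)`: inverts `Z(S) ∩ [S, S]` and is trivial modulo it. -/
def IsReflection (F : Cfsg.FusionSystem S) (ρ : MulAut (centerIn S)) : Prop :=
  ρ ∈ F.autGroup (centerIn S) ∧
    (∀ z : centerIn S, (z : Ω) ∈ (commutator S).map S.subtype → ρ z = z⁻¹) ∧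
    ∀ z : centerIn S, ((z⁻¹ * ρ z : centerIn S) : Ω) ∈ (commutator S).map S.subtype

theorem IsReflection.unique [Finite S] (hS : IsPGroup p S) (hF : F.IsSaturated p)
    {ρ ρ' : MulAut (centerIn S)} (h : IsReflection F ρ) (h' : IsReflection F ρ') : ρ = ρ' := by
  have : Finite (centerIn S) := finite_of_le (centerIn_le S)
  have : Finite (MulAut (centerIn S)) := finite_mulAut
  set D := ((commutator S).map S.subtype).subgroupOf (centerIn S)
  obtain ⟨n, hn⟩ := IsPGroup.iff_card.1 (hS.to_le (centerIn_le S))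
  have hcop : (orderOf (ρ'⁻¹ * ρ)).Coprime (Nat.card (centerIn S)) := by
    rw [hn]
    refine Nat.Coprime.pow_right n (Nat.Coprime.coprime_dvd_left ?_ (coprime_autGroup_center hS hF))
    exact Subgroup.orderOf_dvd_natCard _ (mul_mem (inv_mem h'.1) h.1)
  have hfix : ∀ d ∈ D, (ρ'⁻¹ * ρ) d = d := by
    intro d hd
    rw [MulAut.mul_apply, h.2.1 d hd, map_inv]
    have e : ρ'⁻¹ d = d⁻¹ := by
      apply ρ'.injective
      rw [MulAut.apply_inv_self, map_inv, h'.2.1 d hd, inv_inv]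
    rw [e, inv_inv]
  have key : ∀ z, (ρ'⁻¹ * ρ) z = z := fun z => by
    refine CfsgLib.FusionAut.fix_of_coprime hcop hfix ?_
    have h1 : ∀ w, w⁻¹ * ρ'⁻¹ w ∈ D := fun w => by
      have := D.inv_mem (show (ρ'⁻¹ w)⁻¹ * ρ' (ρ'⁻¹ w) ∈ D from h'.2.2 _)
      simpa using this
    have := D.mul_mem (show z⁻¹ * ρ z ∈ D from h.2.2 z) (h1 (ρ z))
    rwa [mul_assoc, mul_inv_cancel_left] at this
  have e : ρ'⁻¹ * ρ = 1 := MulEquiv.ext key
  rw [inv_mul_eq_one] at e
  exact e.symm

theorem IsReflection.fix_invariant [Finite S] (hS : IsPGroup p S) (hF : F.IsSaturated p)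
    {ρ α : MulAut (centerIn S)} (h : IsReflection F ρ) (hα : α ∈ F.autGroup (centerIn S))
    {z : centerIn S} (hz : ρ z = z) : ρ (α z) = α z := by
  have hconj : IsReflection F (α * ρ * α⁻¹) := by
    refine ⟨mul_mem (mul_mem hα h.1) (inv_mem hα), fun w hw => ?_, fun w => ?_⟩
    · rw [MulAut.mul_apply, MulAut.mul_apply,
        h.2.1 _ (mem_commutator_of_mem_autGroup hS hF (inv_mem hα) hw), map_inv,
        MulAut.apply_inv_self]
    · have := mem_commutator_of_mem_autGroup hS hF hα (h.2.2 (α⁻¹ w))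
      rw [map_mul, map_inv, MulAut.apply_inv_self] at this
      exact this
  have e := hconj.unique hS hF h
  conv_lhs => rw [← e]
  rw [MulAut.mul_apply, MulAut.mul_apply, MulAut.inv_apply_self, hz]

section Split

variable [Finite S] {P : Subgroup Ω} [IsMulCommutative P] {W : Subgroup P} {l l₁ : P}

/-- The line `l` of a split essential subgroup is `Z(S) ∩ [S, S]`. -/
theorem Split.coe_mem_commutator (hsp : Split p (F.autGroup P) ((centerIn S).subgroupOf P) W l l₁)
    (hPS : P ≤ S) (hstab : stab (F.autGroup P) ((centerIn S).subgroupOf P) = autInducedBy S P) :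
    (l : Ω) ∈ (commutator S).map S.subtype := by
  obtain ⟨k, hk, y, hy⟩ := hsp.l_eq
  rw [hstab] at hk
  obtain ⟨g, hg, hgS, rfl⟩ := exists_eq_conjAut hk
  refine ⟨⁅(⟨y, hPS y.2⟩ : S)⁻¹, ⟨g, hgS⟩⁆,
    Subgroup.commutator_mem_commutator (Subgroup.mem_top _) (Subgroup.mem_top _), ?_⟩
  rw [hy]
  show ((⁅(⟨y, hPS y.2⟩ : S)⁻¹, ⟨g, hgS⟩⁆ : S) : Ω) = (y : Ω)⁻¹ * (g * y * g⁻¹)
  simp [commutatorElement_def, mul_assoc]

omit [Fact p.Prime] in
theorem Split.l_ne_one {G : Subgroup (MulAut P)} {Z : Subgroup P} (hsp : Split p G Z W l l₁) :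
    l ≠ 1 := fun e => hsp.l_notMem (e ▸ one_mem W)

theorem Split.mem_zpowers_iff (hsp : Split p (F.autGroup P) ((centerIn S).subgroupOf P) W l l₁)
    (hPS : P ≤ S) (hstab : stab (F.autGroup P) ((centerIn S).subgroupOf P) = autInducedBy S P)
    (hL : Nat.card (centerIn S ⊓ (commutator S).map S.subtype : Subgroup Ω) = p) {x : P}
    (hxZ : (x : Ω) ∈ centerIn S) :
    (x : Ω) ∈ (commutator S).map S.subtype ↔ x ∈ Subgroup.zpowers l := by
  have : Finite P := finite_of_le hPS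
  have hle : (Subgroup.zpowers l).map P.subtype ≤ centerIn S ⊓ (commutator S).map S.subtype := by
    rw [MonoidHom.map_zpowers, Subgroup.zpowers_le]
    exact ⟨hsp.l_mem, hsp.coe_mem_commutator hPS hstab⟩
  have : Finite (centerIn S ⊓ (commutator S).map S.subtype : Subgroup Ω) :=
    finite_of_le (inf_le_left.trans (centerIn_le S))
  have heq := Subgroup.eq_of_le_of_card_ge hle (by
    rw [hL, Subgroup.card_map_of_injective P.subtype_injective, Nat.card_zpowers,
      orderOf_eq_prime hsp.l_pow hsp.l_ne_one])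
  constructor
  · intro hx
    obtain ⟨x', hx', e⟩ := heq.ge ⟨hxZ, hx⟩
    obtain rfl : x' = x := Subtype.ext e
    exact hx'
  · intro hx
    exact (hle ⟨x, hx, rfl⟩).2

theorem Split.exists_reflection (hsp : Split p (F.autGroup P) ((centerIn S).subgroupOf P) W l l₁)
    (hPS : P ≤ S) (hZP : centerIn S ≤ P)
    (hstab : stab (F.autGroup P) ((centerIn S).subgroupOf P) = autInducedBy S P)
    (hL : Nat.card (centerIn S ⊓ (commutator S).map S.subtype : Subgroup Ω) = p) (hp : p ≠ 2) :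
    ∃ ρ, IsReflection F ρ ∧ ∀ z : centerIn S, ρ z = z ↔ (⟨z, hZP z.2⟩ : P) ∈ W := by
  obtain ⟨τ, hτ, hτW, hτl, -⟩ := hsp.exists_neg
  have hdec : ∀ x : P, (x : Ω) ∈ centerIn S → ∃ w ∈ W, ∃ n : ℤ, w * l ^ n = x ∧
      τ x = w * (l ^ n)⁻¹ := by
    intro x hx
    have hx' : x ∈ W ⊔ Subgroup.zpowers l := hsp.W_sup.ge hx
    obtain ⟨w, hw, q, hq, rfl⟩ := Subgroup.mem_sup.1 hx'
    obtain ⟨n, rfl⟩ := Subgroup.mem_zpowers_iff.1 hq
    exact ⟨w, hw, n, rfl, by rw [map_mul, map_zpow, hτW w hw, hτl, inv_zpow]⟩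
  have hlZ : l ∈ (centerIn S).subgroupOf P := hsp.l_mem
  obtain ⟨ρ, hρ, hρx⟩ := exists_restrict ((mem_autGroup_iff_hom hPS).1 hτ) hZP (fun x hx => by
    obtain ⟨w, hw, n, -, e⟩ := hdec x hx
    show ((τ x : P) : Ω) ∈ centerIn S
    rw [e]
    exact mul_mem (hsp.W_le hw : (w : Ω) ∈ centerIn S) (inv_mem (zpow_mem hlZ n :)))
  have hval : ∀ z : centerIn S, (ρ z : Ω) = ((τ ⟨z, hZP z.2⟩ : P) : Ω) := hρx
  refine ⟨ρ, ⟨hρ, fun z hz => ?_, fun z => ?_⟩, fun z => ?_⟩
  · obtain ⟨n, hn⟩ := Subgroup.mem_zpowers_iff.1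
      ((hsp.mem_zpowers_iff hPS hstab hL (x := ⟨z, hZP z.2⟩) z.2).1 hz)
    refine Subtype.ext ?_
    rw [hval, ← hn, map_zpow, hτl, inv_zpow, hn]
    rfl
  · obtain ⟨w, hw, n, e, e'⟩ := hdec ⟨z, hZP z.2⟩ z.2
    rw [Subgroup.coe_mul, hval, e']
    have h1 : (((l ^ n)⁻¹ * (l ^ n)⁻¹ : P) : Ω) ∈ (commutator S).map S.subtype :=
      mul_mem (inv_mem (Subgroup.zpow_mem _ (hsp.coe_mem_commutator hPS hstab) n :))
        (inv_mem (Subgroup.zpow_mem _ (hsp.coe_mem_commutator hPS hstab) n :))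
    have e2 : ((z⁻¹ : centerIn S) : Ω) = ((w * l ^ n : P) : Ω)⁻¹ := by rw [e]; rfl
    rw [e2, ← Subgroup.coe_inv, ← Subgroup.coe_mul,
      show (w * l ^ n)⁻¹ * (w * (l ^ n)⁻¹) = (l ^ n)⁻¹ * (l ^ n)⁻¹ by
        rw [mul_inv_rev, mul_assoc, inv_mul_cancel_left]]
    exact h1
  · obtain ⟨w, hw, n, e, e'⟩ := hdec ⟨z, hZP z.2⟩ z.2
    constructor
    · intro h
      have h1 : τ ⟨z, hZP z.2⟩ = ⟨z, hZP z.2⟩ := Subtype.ext ((hval z).symm.trans (by rw [h]))
      rw [e', ← e, mul_right_inj, inv_eq_iff_mul_eq_one] at h1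
      have h2 : l ^ (2 * n) = 1 := by rw [two_mul, zpow_add]; exact h1
      rw [← orderOf_dvd_iff_zpow_eq_one, orderOf_eq_prime hsp.l_pow hsp.l_ne_one] at h2
      have h3 : (p : ℤ) ∣ n := by
        refine (Int.Prime.dvd_mul' (Fact.out : p.Prime) h2).resolve_left fun hd => hp ?_
        exact (Nat.prime_dvd_prime_iff_eq Fact.out Nat.prime_two).1 (by exact_mod_cast hd)
      obtain ⟨c, rfl⟩ := h3
      rw [← e, zpow_mul, zpow_natCast, hsp.l_pow, one_zpow, mul_one]
      exact hw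
    · intro h
      refine Subtype.ext ?_
      rw [hval, hτW _ h]

end Split

end CfsgLib.FusionIndexP
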