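import Cfsg.Agent.Lib.PGroup.AbelianMax
import Cfsg.Agent.Lib.PGroup.Basic
import Mathlib.GroupTheory.SpecificGroups.Cyclic

/-!
# `p`-groups whose centre has index `p ^ 2`
-/

set_option autoImplicit false

namespace CfsgLib.FusionIndexP

open scoped commutatorElement

variable {X : Type*} [Group X] [Finite X] {p : ℕ} [Fact p.Prime]

theorem not_top_of_index_sq (hi : (Subgroup.center X).index = p ^ 2) : Subgroup.center X ≠ ⊤ :=
  fun e => by
    rw [e, Subgroup.index_top] at hi
    exact ((Nat.one_lt_pow (by norm_num) (Fact.out : p.Prime).one_lt).ne' hi.symm)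

theorem commutator_le_center_of_index_sq (hi : (Subgroup.center X).index = p ^ 2) :
    commutator X ≤ Subgroup.center X := by
  have := IsPGroup.isMulCommutative_of_card_eq_prime_sq (G := X ⧸ Subgroup.center X) (p := p)
    (by rw [← Subgroup.index_eq_card]; exact hi)
  rw [commutator_def, Subgroup.commutator_le]
  intro a _ b _
  refine (QuotientGroup.eq_one_iff _).1 ?_
  show QuotientGroup.mk' (Subgroup.center X) ⁅a, b⁆ = 1
  rw [map_commutatorElement, commutatorElement_eq_one_iff_mul_comm]
  exact mul_comm' _ _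

theorem pow_mem_center_of_index_sq (hi : (Subgroup.center X).index = p ^ 2) (x : X) :
    x ^ p ∈ Subgroup.center X := by
  have hn : ¬ IsCyclic (X ⧸ Subgroup.center X) := fun hc => by
    have := isMulCommutative_of_isCyclic_quotient_center_self X
    exact not_top_of_index_sq hi (Subgroup.center_eq_top_iff.2 this)
  refine (QuotientGroup.eq_one_iff _).1 ?_
  show ((x ^ p : X) : X ⧸ Subgroup.center X) = 1
  rw [QuotientGroup.mk_pow]
  have hd : orderOf (x : X ⧸ Subgroup.center X) ∣ p ^ 2 := by
    rw [← hi, Subgroup.index_eq_card]; exact orderOf_dvd_natCard _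
  obtain ⟨k, hk, hk'⟩ := (Nat.dvd_prime_pow Fact.out).1 hd
  rcases (show k ≤ 1 ∨ k = 2 by omega) with hk1 | rfl
  · rw [← orderOf_dvd_iff_pow_eq_one, hk']
    exact (pow_dvd_pow p hk1).trans (pow_one p).dvd
  · exact absurd (isCyclic_of_orderOf_eq_card (x : X ⧸ Subgroup.center X)
      (by rw [hk', ← hi, Subgroup.index_eq_card])) hn

/-- A subgroup generated over the centre by one element. -/
theorem index_sup_zpowers (hi : (Subgroup.center X).index = p ^ 2) {a : X}
    (ha : a ∉ Subgroup.center X) : (Subgroup.center X ⊔ Subgroup.zpowers a).index = p := by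
  have hp := (Fact.out : p.Prime)
  set M := Subgroup.center X ⊔ Subgroup.zpowers a with hM
  obtain ⟨k, hk, hk'⟩ := (Nat.dvd_prime_pow hp).1
    (hi ▸ Subgroup.index_dvd_of_le (le_sup_left : Subgroup.center X ≤ M))
  rcases (show k = 0 ∨ k = 1 ∨ k = 2 by omega) with rfl | rfl | rfl
  · exfalso
    rw [pow_zero, Subgroup.index_eq_one] at hk'
    refine not_top_of_index_sq hi (eq_top_iff.2 ?_)
    have hMc : M ≤ Subgroup.centralizer {a} := by
      refine sup_le (fun z hz => Subgroup.mem_centralizer_singleton_iff.2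
        (Subgroup.mem_center_iff.1 hz a).symm)
        (Subgroup.zpowers_le.2 (Subgroup.mem_centralizer_singleton_iff.2 rfl))
    refine absurd (Subgroup.mem_center_iff.2 fun g => ?_) ha
    exact Subgroup.mem_centralizer_singleton_iff.1 (hMc (hk'.ge (Subgroup.mem_top g)))
  · rwa [pow_one] at hk'
  · exfalso
    have h1 := Subgroup.relIndex_mul_index (le_sup_left : Subgroup.center X ≤ M)
    rw [hk', hi] at h1
    exact ha (Subgroup.relIndex_eq_one.1
      (Nat.eq_of_mul_eq_mul_right (pow_pos hp.pos 2) (h1.trans (one_mul _).symm))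
      (Subgroup.mem_sup_right (Subgroup.mem_zpowers a)))

theorem card_commutator_of_index_sq (hi : (Subgroup.center X).index = p ^ 2) :
    Nat.card (commutator X) = p := by
  have hp := (Fact.out : p.Prime)
  obtain ⟨a, ha⟩ : ∃ a, a ∉ Subgroup.center X := by
    by_contra hc
    push Not at hc
    exact not_top_of_index_sq hi (eq_top_iff.2 fun x _ => hc x)
  set M := Subgroup.center X ⊔ Subgroup.zpowers a with hM
  have hMi := index_sup_zpowers hi ha
  have hMn : M.Normal := ⟨fun m hm g => by
    have h1 : ⁅g, m⁆ ∈ Subgroup.center X := commutator_le_center_of_index_sq hi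
      (Subgroup.commutator_mem_commutator (Subgroup.mem_top g) (Subgroup.mem_top m))
    have e : g * m * g⁻¹ = ⁅g, m⁆ * m := by rw [commutatorElement_def]; group
    rw [e]
    exact M.mul_mem (Subgroup.mem_sup_left h1) hm⟩
  have hab : ∀ u ∈ M, ∀ v ∈ M, u * v = v * u := by
    have hle : ∀ v ∈ M, M ≤ Subgroup.centralizer {v} := fun v hv => by
      refine sup_le (fun z hz => Subgroup.mem_centralizer_singleton_iff.2
        (Subgroup.mem_center_iff.1 hz v).symm)
        (Subgroup.zpowers_le.2 (Subgroup.mem_centralizer_singleton_iff.2 ?_))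
      have hle' : M ≤ Subgroup.centralizer {a} := sup_le
        (fun z hz => Subgroup.mem_centralizer_singleton_iff.2 (Subgroup.mem_center_iff.1 hz a).symm)
        (Subgroup.zpowers_le.2 (Subgroup.mem_centralizer_singleton_iff.2 rfl))
      exact (Subgroup.mem_centralizer_singleton_iff.1 (hle' hv)).symm
    exact fun u hu v hv => Subgroup.mem_centralizer_singleton_iff.1 (hle v hv hu)
  have h1 := CfsgLib.PGroup.AbelianMax.card_eq_card_commutator_mul_card_center M hab
    (by rw [hMi]; exact hp) (not_top_of_index_sq hi)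
  have h2 := Subgroup.card_mul_index M
  rw [hMi, h1, ← Subgroup.card_mul_index (Subgroup.center X), hi] at h2
  have hpos : 0 < Nat.card (Subgroup.center X) * p := Nat.mul_pos Nat.card_pos hp.pos
  refine Nat.eq_of_mul_eq_mul_right hpos ?_
  calc Nat.card (commutator X) * (Nat.card (Subgroup.center X) * p)
      = Nat.card (commutator X) * Nat.card (Subgroup.center X) * p := (mul_assoc _ _ _).symm
    _ = Nat.card (Subgroup.center X) * p ^ 2 := h2
    _ = p * (Nat.card (Subgroup.center X) * p) := by ring

theorem frattini_eq_center_of_index_sq (hX : IsPGroup p X)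
    (hi : (Subgroup.center X).index = p ^ 2) (hc : Subgroup.center X ≤ commutator X) :
    frattini X = Subgroup.center X := by
  refine le_antisymm (fun f hf => ?_) (hc.trans (CfsgLib.PGroup.commutator_le_frattini hX))
  obtain ⟨a, ha⟩ : ∃ a, a ∉ Subgroup.center X := by
    by_contra h
    push Not at h
    exact not_top_of_index_sq hi (eq_top_iff.2 fun x _ => h x)
  have hco : ∀ {u : X}, u ∉ Subgroup.center X →
      IsCoatom (Subgroup.center X ⊔ Subgroup.zpowers u) := by
    intro u hu
    have h1 := index_sup_zpowers hi hu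
    refine ⟨fun e => (Fact.out : p.Prime).one_lt.ne' ?_, fun K hK => ?_⟩
    · rw [← h1, e, Subgroup.index_top]
    · have h2 := Subgroup.relIndex_mul_index hK.le
      rw [h1] at h2
      rcases (Fact.out : p.Prime).eq_one_or_self_of_dvd _ ⟨_, h2.symm⟩ with e | e
      · exact absurd (Subgroup.relIndex_eq_one.1 e) (not_le_of_gt hK)
      · rw [e] at h2
        exact Subgroup.index_eq_one.1
          (Nat.eq_of_mul_eq_mul_left (Fact.out : p.Prime).pos (h2.trans (mul_one p).symm))
  set M := Subgroup.center X ⊔ Subgroup.zpowers a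
  obtain ⟨b, hb⟩ : ∃ b, b ∉ M := by
    by_contra h
    push Not at h
    exact (hco ha).1 (eq_top_iff.2 fun x _ => h x)
  have hbc : b ∉ Subgroup.center X := fun h => hb (Subgroup.mem_sup_left h)
  set N := Subgroup.center X ⊔ Subgroup.zpowers b
  have hM : f ∈ M := frattini_le_coatom (hco ha) hf
  have hN : f ∈ N := frattini_le_coatom (hco hbc) hf
  by_contra hfc
  have hfM : Subgroup.center X ⊔ Subgroup.zpowers f ≤ M :=
    sup_le le_sup_left (Subgroup.zpowers_le.2 hM)
  have hfN : Subgroup.center X ⊔ Subgroup.zpowers f ≤ N :=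
    sup_le le_sup_left (Subgroup.zpowers_le.2 hN)
  have e1 := ((hco hfc).le_iff.1 hfM).resolve_left (hco ha).1
  have e2 := ((hco hfc).le_iff.1 hfN).resolve_left (hco hbc).1
  exact hb (e1 ▸ e2.le (Subgroup.mem_sup_right (Subgroup.mem_zpowers b)))

end CfsgLib.FusionIndexP
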