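import Cfsg.Agent.Lib.FusionIndexP.CenterAut

/-!
# A system without normal subgroups whose abelian essential subgroups split
-/

set_option autoImplicit false

namespace CfsgLib.FusionIndexP

open Cfsg Cfsg.FusionSystem CfsgLib.Fusion
open scoped IsMulCommutative

variable {Ω : Type*} [Group Ω] {S : Subgroup Ω} {p : ℕ} [Fact p.Prime] {F : Cfsg.FusionSystem S}

theorem eq_bot_of_isNormal_of_core {Q : Subgroup Ω} (hcore : F.core = ⊥) (hQ : F.IsNormal Q) :
    Q = ⊥ :=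
  le_bot_iff.1 (hcore ▸ le_sSup hQ)

theorem map_eq_of_invariant [Finite S] {P Q : Subgroup Ω} (hPS : P ≤ S) (hQP : Q ≤ P)
    {α : MulAut P} (h : ∀ x : P, (x : Ω) ∈ Q → ((α x : P) : Ω) ∈ Q) :
    (Q.subgroupOf P).map α.toMonoidHom = Q.subgroupOf P := by
  have : Finite P := finite_of_le hPS
  exact Subgroup.eq_of_le_of_card_ge (by rintro _ ⟨x, hx, rfl⟩; exact h x hx)
    (Subgroup.card_map_of_injective (f := α.toMonoidHom) α.injective).ge

/-- A reflection with trivial fixed points means `Z(S) ≤ [S, S]`. -/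
theorem center_le_commutator_of_core_eq_bot [Finite S] (hS : IsPGroup p S) (hF : F.IsSaturated p)
    (hp : p ≠ 2) (hcore : F.core = ⊥)
    (hL : Nat.card (centerIn S ⊓ (commutator S).map S.subtype : Subgroup Ω) = p)
    {P : Subgroup Ω} [IsMulCommutative P] (hP : F.IsEssential p P) (hZP : centerIn S ≤ P)
    (hi : (centerIn S).relIndex P = p)
    (hcomm : ∀ g ∈ normalizerIn S P, ∀ x ∈ P, x⁻¹ * (g * x * g⁻¹) ∈ centerIn S)
    (hess : ∀ Q : Subgroup Ω, F.IsEssential p Q → centerIn S ≤ Q ∧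
      ((IsMulCommutative Q ∧ (centerIn S).relIndex Q = p ∧
          ∀ g ∈ normalizerIn S Q, ∀ x ∈ Q, x⁻¹ * (g * x * g⁻¹) ∈ centerIn S) ∨
        ∀ α ∈ F.autGroup Q, ∀ x : Q, (x : Ω) ∈ centerIn S → ((α x : Q) : Ω) ∈ centerIn S)) :
    centerIn S ≤ (commutator S).map S.subtype := by
  obtain ⟨W, l, l₁, hsp, hstab, -⟩ := exists_split_of_essential hS hF hP hZP hi
    (fun g hg z hz => (mem_centerIn.1 hz).2 g hg.1) hcomm
  obtain ⟨ρ, hρ, hρfix⟩ := hsp.exists_reflection hP.1.1 hZP hstab hL hp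
  set C := W.map P.subtype with hC
  have hCZ : C ≤ centerIn S := by
    rintro _ ⟨w, hw, rfl⟩
    exact hsp.W_le hw
  have hmemC : ∀ z : centerIn S, (z : Ω) ∈ C ↔ ρ z = z := by
    intro z
    rw [hρfix]
    constructor
    · rintro ⟨w, hw, e⟩
      have : (⟨z, hZP z.2⟩ : P) = w := Subtype.ext e.symm
      rwa [this]
    · intro h
      exact ⟨_, h, rfl⟩
  -- maps preserving the centre preserve `C`
  have key : ∀ {Q : Subgroup Ω} {φ : Q →* Ω}, φ ∈ F.Hom Q → centerIn S ≤ Q →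
      (∀ x : Q, (x : Ω) ∈ centerIn S → φ x ∈ centerIn S) → ∀ x : Q, (x : Ω) ∈ C → φ x ∈ C := by
    intro Q φ hφ hZQ hmap x hx
    obtain ⟨α, hα, hαx⟩ := exists_restrict hφ hZQ hmap
    have h1 := hρ.fix_invariant hS hF hα ((hmemC ⟨x, hCZ hx⟩).1 hx)
    have h2 := (hmemC _).2 h1
    rwa [hαx ⟨x, hCZ hx⟩] at h2
  have hbot : C = ⊥ := by
    refine eq_bot_of_isNormal_of_core hcore ((isNormal_iff_essential hS hF).2 fun Q hQ => ?_)
    rcases hQ with rfl | hQ
    · refine ⟨hCZ.trans (centerIn_le _), fun α hα =>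
        map_eq_of_invariant le_rfl (hCZ.trans (centerIn_le _)) fun x hx => ?_⟩
      exact key ((mem_autGroup_iff_hom le_rfl).1 hα) (centerIn_le _)
        (fun y hy => aut_mem_center hy) x hx
    obtain ⟨hZQ, hcase⟩ := hess Q hQ
    refine ⟨hCZ.trans hZQ, fun α hα =>
      map_eq_of_invariant hQ.1.1 (hCZ.trans hZQ) fun x hx => ?_⟩
    rcases hcase with ⟨hQc, hQi, hQn⟩ | hinv
    · haveI := hQc
      obtain ⟨W', l', l₁', hsp', hstab', -⟩ := exists_split_of_essential hS hF hQ hZQ hQi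
        (fun g hg z hz => (mem_centerIn.1 hz).2 g hg.1) hQn
      obtain ⟨ρ', hρ', hρ'fix⟩ := hsp'.exists_reflection hQ.1.1 hZQ hstab' hL hp
      have hρe := hρ'.unique hS hF hρ
      subst hρe
      have h1 : (⟨x, hZQ (hCZ hx)⟩ : Q) ∈ W' :=
        (hρ'fix ⟨x, hCZ hx⟩).1 ((hmemC ⟨x, hCZ hx⟩).1 hx)
      have h2 := hsp'.W_inv α hα _ h1
      have h3 : ((α x : Q) : Ω) ∈ centerIn S := hsp'.W_le h2
      refine (hmemC ⟨(α x : Q), h3⟩).2 ((hρ'fix _).2 ?_)
      exact h2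
    · exact key ((mem_autGroup_iff_hom hQ.1.1).1 hα) hZQ (hinv α hα) x hx
  intro z hz
  have hzW : (⟨z, hZP hz⟩ : P) ∈ W ⊔ Subgroup.zpowers l := hsp.W_sup.ge hz
  have hW : W = ⊥ := (Subgroup.map_eq_bot_iff_of_injective _ P.subtype_injective).1 hbot
  rw [hW, bot_sup_eq] at hzW
  exact (hsp.mem_zpowers_iff hP.1.1 hstab hL (x := ⟨z, hZP hz⟩) hz).2 hzW

end CfsgLib.FusionIndexP
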