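import Cfsg.Agent.Lib.FusionIndexP.Transvection
import Cfsg.Agent.Lib.Fusion.Normal

/-!
# Abelian essential subgroups with a centralised maximal subgroup
-/

set_option autoImplicit false

namespace CfsgLib.FusionIndexP

open Cfsg Cfsg.FusionSystem CfsgLib.Fusion
open scoped IsMulCommutative

variable {Ω : Type*} [Group Ω] {S : Subgroup Ω} {p : ℕ} [Fact p.Prime] {F : Cfsg.FusionSystem S}

theorem inn_eq_bot {P : Subgroup Ω} [IsMulCommutative P] : Cfsg.Inn P = ⊥ := by
  refine (Subgroup.eq_bot_iff_forall _).2 ?_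
  rintro _ ⟨u, rfl⟩
  exact MulEquiv.ext fun x => by
    show u * x * u⁻¹ = x
    rw [mul_comm' u x, mul_inv_cancel_right]

/-- An essential subgroup is properly contained in its normalizer, and some element of it acts by
an outer automorphism. -/
theorem exists_outer_of_isEssential [Finite S] (hS : IsPGroup p S) (hF : F.IsSaturated p)
    {P : Subgroup Ω} (hP : F.IsEssential p P) :
    P < S ∧ P < normalizerIn S P ∧ ∀ g (hg : g ∈ Subgroup.normalizer (P : Set Ω)), g ∈ S → g ∉ P →
      conjAut P g hg ∉ Cfsg.Inn P := by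
  have hPS : P ≤ S := hP.1.1
  have hne : P ≠ S := by
    rintro rfl
    apply extendableAut_ne_of_isEssential hS hF hP
    refine le_antisymm (extendableAut_le F P) ?_
    obtain ⟨-, T, hT⟩ := isFullyAutomized_of_isFullyNormalized hS hF (isFullyNormalized_top F)
    have hn := inn_subgroupOf_normal F P
    obtain ⟨_, _, _, E, hdvd, -⟩ := hP
    rw [← inn_eq_autInducedBy] at hT
    rw [← Subgroup.index_eq_card] at hdvd
    have : Finite (MulAut P) := finite_mulAut
    exact absurd hdvd (hT ▸ T.not_dvd_index)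
  exact ⟨lt_of_le_of_ne hPS hne, lt_normalizerIn hS (lt_of_le_of_ne hPS hne), fun g hg hgS hgP h =>
    hgP (mem_of_conjAut_mem_inn (centralizerIn_le_of_isCentric hP.1) hPS hgS hg h)⟩

theorem exists_split_of_essential [Finite S] (hS : IsPGroup p S) (hF : F.IsSaturated p)
    {P Z₀ : Subgroup Ω} [IsMulCommutative P] (hP : F.IsEssential p P) (hZP : Z₀ ≤ P)
    (hi : Z₀.relIndex P = p) (hcent : ∀ g ∈ normalizerIn S P, ∀ z ∈ Z₀, g * z = z * g)
    (hcomm : ∀ g ∈ normalizerIn S P, ∀ x ∈ P, x⁻¹ * (g * x * g⁻¹) ∈ Z₀) :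
    ∃ (W : Subgroup P) (l l₁ : P), Split p (F.autGroup P) (Z₀.subgroupOf P) W l l₁ ∧
      stab (F.autGroup P) (Z₀.subgroupOf P) = autInducedBy S P ∧
      P.relIndex (normalizerIn S P) = p := by
  have hPS : P ≤ S := hP.1.1
  have : Finite P := finite_of_le hPS
  have : Finite (MulAut P) := finite_mulAut
  have hPp : IsPGroup p P := hS.to_le hPS
  obtain ⟨-, hlt, hout⟩ := exists_outer_of_isEssential hS hF hP
  set G := F.autGroup P with hG
  set Z := Z₀.subgroupOf P with hZdef
  have hTle : autInducedBy S P ≤ stab G Z := by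
    intro α hα
    obtain ⟨g, hg, hgS, rfl⟩ := exists_eq_conjAut hα
    refine ⟨autInducedBy_le_autGroup F hPS (conjAut_mem_autInducedBy hgS hg), fun z hz => ?_,
      fun u => hcomm g ⟨hgS, hg⟩ u u.2⟩
    refine Subtype.ext ?_
    rw [conjAut_apply]
    rw [hcent g ⟨hgS, hg⟩ z hz, mul_inv_cancel_right]
  obtain ⟨-, T, hT⟩ := isFullyAutomized_of_isFullyNormalized hS hF hP.2.1
  have hTG : autInducedBy S P ≤ G := autInducedBy_le_autGroup F hPS
  have hmax' : ∀ Q : Subgroup (MulAut P), Q ≤ G → IsPGroup p Q → autInducedBy S P ≤ Q →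
      Q = autInducedBy S P := by
    intro Q hQG hQp hle
    have hQ' : IsPGroup p (Q.subgroupOf G) := IsPGroup.comap_subtype hQp
    have := T.3 hQ' (hT.le.trans fun a (ha : (a : MulAut P) ∈ autInducedBy S P) => hle ha)
    rw [hT] at this
    refine le_antisymm (fun a ha => ?_) hle
    have h1 : (⟨a, hQG ha⟩ : G) ∈ Q.subgroupOf G := ha
    rw [this] at h1
    exact h1
  have hstab : stab G Z = autInducedBy S P :=
    hmax' _ (fun g hg => hg.1) (isPGroup_stab hPp G Z) hTle
  have hne : stab G Z ≠ ⊥ := by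
    obtain ⟨g, hg, hgP⟩ := SetLike.exists_of_lt hlt
    rw [hstab, Ne, Subgroup.eq_bot_iff_forall]
    push Not
    refine ⟨conjAut P g hg.2, conjAut_mem_autInducedBy hg.1 hg.2, fun h => ?_⟩
    exact hout g hg.2 hg.1 hgP (h ▸ one_mem _)
  have hmove : ∃ γ ∈ G, Z.map γ.toMonoidHom ≠ Z := by
    by_contra hc
    push Not at hc
    have hinv : ∀ γ ∈ G, ∀ z ∈ Z, γ z ∈ Z := fun γ hγ z hz => (hc γ hγ).le ⟨z, hz, rfl⟩
    have hn : ((stab G Z).subgroupOf G).Normal := by
      refine ⟨fun k hk γ => ⟨(γ * k * γ⁻¹).2, fun z hz => ?_, fun u => ?_⟩⟩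
      · show (γ : MulAut P) ((k : MulAut P) ((γ : MulAut P)⁻¹ z)) = z
        rw [show (k : MulAut P) ((γ : MulAut P)⁻¹ z) = (γ : MulAut P)⁻¹ z from
          hk.2.1 _ (hinv _ (inv_mem γ.2) z hz), MulAut.apply_inv_self]
      · have := hinv _ γ.2 _ (hk.2.2 ((γ : MulAut P)⁻¹ u))
        rw [map_mul, map_inv, MulAut.apply_inv_self] at this
        exact this
    obtain ⟨k, hk⟩ : ∃ k, k ∈ stab G Z ∧ k ≠ 1 := by
      by_contra h
      push Not at h
      exact hne ((Subgroup.eq_bot_iff_forall _).2 h)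
    apply hk.2
    rw [← Subgroup.mem_bot, ← inn_eq_bot (P := P), ← (isRadical_of_isEssential hS hF hP).2]
    exact ⟨⟨k, hk.1.1⟩, CfsgLib.Solvable.le_pCore hn
      (IsPGroup.comap_subtype (isPGroup_stab hPp G Z)) hk.1, rfl⟩
  obtain ⟨W, l, l₁, hsp⟩ := exists_split hPp (show Z.index = p from hi)
    (fun Q hQG hQp hle => by
      rw [hstab] at hle ⊢
      exact hmax' Q hQG hQp hle) hne hmove
  refine ⟨W, l, l₁, hsp, hstab, ?_⟩
  set N := normalizerIn S P
  let c : N →* MulAut P := P.normalizerMonoidHom.comp (Subgroup.inclusion inf_le_right)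
  have hker : c.ker = P.subgroupOf N := by
    ext g
    constructor
    · intro h
      refine centralizerIn_le_of_isCentric hP.1 (mem_centralizerIn.2 ⟨g.2.1, fun x hx => ?_⟩)
      have := congrArg (fun a : MulAut P => ((a ⟨x, hx⟩ : P) : Ω)) h
      exact ((mul_inv_eq_iff_eq_mul (a := (g : Ω) * x)).1 this).symm
    · intro h
      refine MulEquiv.ext fun x => Subtype.ext ?_
      show (g : Ω) * x * (g : Ω)⁻¹ = x
      rw [show (g : Ω) * x = x * g from congrArg Subtype.val (mul_comm' (⟨g, h⟩ : P) x),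
        mul_inv_cancel_right]
  have hrange : c.range = autInducedBy S P := by
    ext α
    constructor
    · rintro ⟨g, rfl⟩
      exact conjAut_mem_autInducedBy g.2.1 g.2.2
    · intro hα
      obtain ⟨g, hg, hgS, rfl⟩ := exists_eq_conjAut hα
      exact ⟨⟨g, hgS, hg⟩, rfl⟩
  show (P.subgroupOf N).index = p
  rw [← hker, Subgroup.index_ker, hrange, ← hstab]
  exact hsp.card_stab

end CfsgLib.FusionIndexP
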