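import Cfsg.Agent.Lib.FusionIndexP.AbelianIndex

/-!
# Commutator structure when the second centre has index `p` over the centre
-/

set_option autoImplicit false

namespace CfsgLib.FusionIndexP

open Cfsg Cfsg.FusionSystem CfsgLib.Fusion
open scoped commutatorElement

variable {Ω : Type*} [Group Ω] {S A : Subgroup Ω} {p : ℕ} [Fact p.Prime] [Finite S]

namespace Setup

theorem finite (h : Setup p S A) : Finite A :=
  Finite.of_injective _ (Subgroup.inclusion_injective h.le)

theorem commutator_eq (h : Setup p S A) {x : Ω} (hx : x ∈ S) (hxA : x ∉ A) :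
    (commutator S).map S.subtype = (h.dHom hx).range.map A.subtype := by
  have hn := h.normal
  have hab : ∀ a ∈ A.subgroupOf S, ∀ b ∈ A.subgroupOf S, a * b = b * a := fun a ha b hb =>
    Subtype.ext (h.comm a ha b hb)
  have htop := CfsgLib.PGroup.AbelianMax.sup_zpowers_eq_top (A.subgroupOf S)
    (by rw [show (A.subgroupOf S).index = p from h.index]; exact Fact.out) ⟨x, hx⟩ hxA
  rw [← CfsgLib.PGroup.AbelianMax.range_commHom (A.subgroupOf S) hab ⟨x, hx⟩ htop]
  ext g
  constructor
  · rintro ⟨_, ⟨⟨a, ha⟩, rfl⟩, rfl⟩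
    refine ⟨h.dHom hx ⟨a, ha⟩⁻¹, ⟨_, rfl⟩, ?_⟩
    show x * (a : Ω)⁻¹ * x⁻¹ * ((a : Ω)⁻¹)⁻¹ = a * x * (a : Ω)⁻¹ * x⁻¹
    have ha' : (a : Ω) ∈ A := ha
    rw [inv_inv, h.comm _ (h.conj_mem hx (A.inv_mem ha')) _ ha']
    group
  · rintro ⟨_, ⟨a, rfl⟩, rfl⟩
    refine ⟨_, ⟨⟨⟨(a⁻¹ : A), h.le (a⁻¹).2⟩, (a⁻¹).2⟩, rfl⟩, ?_⟩
    show ((a⁻¹ : A) : Ω) * x * ((a⁻¹ : A) : Ω)⁻¹ * x⁻¹ = x * a * x⁻¹ * (a : Ω)⁻¹
    rw [Subgroup.coe_inv, inv_inv, h.comm _ (h.conj_mem hx a.2) _ (A.inv_mem a.2)]
    group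

theorem center_comap_ker (h : Setup p S A) {x : Ω} (hx : x ∈ S) (hxA : x ∉ A) :
    (h.dHom hx).ker = (centerIn S).subgroupOf A := by
  ext a
  rw [MonoidHom.mem_ker, h.dHom_eq_one_iff hx hxA]
  rfl

/-- `Z(S) ∩ [S, S]` inside `A`. -/
theorem card_center_inf_range (h : Setup p S A) {x : Ω} (hx : x ∈ S) (hxA : x ∉ A)
    (hM : (centerIn S).relIndex (h.midA hx) = p) :
    Nat.card ((centerIn S).subgroupOf A ⊓ (h.dHom hx).range : Subgroup A) = p := by
  set d := h.dHom hx
  set Z := (centerIn S).subgroupOf A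
  have e : (Z.comap d).map d = Z ⊓ d.range := by rw [Subgroup.map_comap_eq, inf_comm]
  rw [← e]
  have h1 : (d.comp (Z.comap d).subtype).range = (Z.comap d).map d := by
    rw [MonoidHom.range_comp, Subgroup.range_subtype]
  rw [← h1, ← Subgroup.index_ker]
  have h2 : (d.comp (Z.comap d).subtype).ker = Z.subgroupOf (Z.comap d) := by
    ext a
    rw [MonoidHom.mem_ker, MonoidHom.comp_apply, h.dHom_eq_one_iff hx hxA]
    rfl
  rw [h2]
  show Z.relIndex (Z.comap d) = p
  have h3 := Subgroup.relIndex_map_map_of_injective Z (Z.comap d) A.subtype_injective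
  rw [Subgroup.map_subgroupOf_eq_of_le h.center_le] at h3
  rw [← h3]
  exact hM

theorem card_center_inf_commutator (h : Setup p S A) {x : Ω} (hx : x ∈ S) (hxA : x ∉ A)
    (hM : (centerIn S).relIndex (h.midA hx) = p) :
    Nat.card (centerIn S ⊓ (commutator S).map S.subtype : Subgroup Ω) = p := by
  rw [h.commutator_eq hx hxA]
  conv_lhs => rw [← Subgroup.map_subgroupOf_eq_of_le h.center_le]
  rw [← Subgroup.map_inf _ _ _ A.subtype_injective,
    Subgroup.card_map_of_injective A.subtype_injective]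
  exact h.card_center_inf_range hx hxA hM

theorem relIndex_center_sup_commutator (h : Setup p S A) {x : Ω} (hx : x ∈ S) (hxA : x ∉ A)
    (hM : (centerIn S).relIndex (h.midA hx) = p) :
    (centerIn S ⊔ (commutator S).map S.subtype).relIndex A = p := by
  have := h.finite
  rw [h.commutator_eq hx hxA]
  conv_lhs => rw [← Subgroup.map_subgroupOf_eq_of_le h.center_le]
  rw [← Subgroup.map_sup]
  show ((((centerIn S).subgroupOf A ⊔ (h.dHom hx).range).map A.subtype).subgroupOf A).index = p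
  rw [Subgroup.subgroupOf, Subgroup.comap_map_eq_self_of_injective A.subtype_injective]
  set d := h.dHom hx
  set Z := (centerIn S).subgroupOf A
  have hn : d.range.Normal := ⟨fun r hr g => by
    have e : g * r * g⁻¹ = r := Subtype.ext (by
      show (g : Ω) * r * (g : Ω)⁻¹ = r
      rw [h.comm g g.2 r r.2, mul_inv_cancel_right])
    rw [e]; exact hr⟩
  have h1 : d.range.index = Nat.card Z := by
    have a1 := Subgroup.index_mul_card d.range
    have a2 := Subgroup.index_ker d
    rw [h.center_comap_ker hx hxA] at a2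
    have a3 := Subgroup.card_mul_index Z
    rw [a2] at a3
    exact Nat.eq_of_mul_eq_mul_right Nat.card_pos (a1.trans a3.symm)
  have h2 := Subgroup.relIndex_mul_index (le_sup_right : d.range ≤ Z ⊔ d.range)
  rw [Subgroup.relIndex_sup_right, h1] at h2
  have h3 := Subgroup.index_mul_card ((d.range).subgroupOf Z)
  have h4 : Nat.card (d.range.subgroupOf Z) = p := by
    rw [← Subgroup.card_map_of_injective (f := Z.subtype) Z.subtype_injective,
      Subgroup.subgroupOf_map_subtype, inf_comm]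
    exact h.card_center_inf_range hx hxA hM
  rw [h4, show (d.range.subgroupOf Z).index = d.range.relIndex Z from rfl] at h3
  rw [← h3] at h2
  exact Nat.eq_of_mul_eq_mul_left (Nat.pos_of_ne_zero (fun e => by
    rw [e, zero_mul] at h3; exact Nat.card_pos.ne' h3.symm)) h2

/-- Iterates of `[x, ·]`. -/
def dPow (h : Setup p S A) {x : Ω} (hx : x ∈ S) : ℕ → (A →* A)
  | 0 => MonoidHom.id A
  | k + 1 => (h.dHom hx).comp (h.dPow hx k)

theorem dPow_mem_lowerCentralSeries (h : Setup p S A) {x : Ω} (hx : x ∈ S) (k : ℕ) (a : A) :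
    (h.dPow hx k a : Ω) ∈ Subgroup.lowerCentralSeries S k := by
  induction k with
  | zero => exact h.le a.2
  | succ k ih =>
    have h1 : ⁅(h.dPow hx k a : Ω), x⁆ ∈ Subgroup.lowerCentralSeries S (k + 1) :=
      Subgroup.commutator_mem_commutator ih hx
    have h2 := inv_mem h1
    rw [commutatorElement_inv] at h2
    exact h2

theorem card_ker_dPow (h : Setup p S A) {x : Ω} (hx : x ∈ S) (hxA : x ∉ A)
    (hM : (centerIn S).relIndex (h.midA hx) = p) (k : ℕ) :
    Nat.card (h.dPow hx (k + 1)).ker ≤ Nat.card (centerIn S) * p ^ k := by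
  have := h.finite
  have : Finite (centerIn S) := Finite.of_injective _
    (Subgroup.inclusion_injective (inf_le_left : centerIn S ≤ S))
  set d := h.dHom hx with hd
  induction k with
  | zero =>
    rw [pow_zero, mul_one]
    show Nat.card (d.comp (MonoidHom.id A)).ker ≤ _
    rw [MonoidHom.comp_id, hd, h.center_comap_ker hx hxA,
      Nat.card_congr (Subgroup.subgroupOfEquivOfLe h.center_le).toEquiv]
  | succ k ih =>
    let f : (h.dPow hx (k + 2)).ker →* A := (h.dPow hx (k + 1)).comp (Subgroup.subtype _)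
    have hrange : f.range ≤ (centerIn S).subgroupOf A ⊓ d.range := by
      rintro _ ⟨a, rfl⟩
      exact ⟨(h.dHom_eq_one_iff hx hxA).1 a.2, ⟨_, rfl⟩⟩
    have h1 := Subgroup.card_mul_index f.ker
    rw [Subgroup.index_ker] at h1
    have h2 : Nat.card f.ker ≤ Nat.card (h.dPow hx (k + 1)).ker :=
      Nat.card_le_card_of_injective (fun a => ⟨(a : (h.dPow hx (k + 2)).ker), a.2⟩)
        fun a b e => Subtype.ext (Subtype.ext (congrArg Subtype.val e :))
    have h3 : Nat.card f.range ≤ p :=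
      (Subgroup.card_le_of_le hrange).trans_eq (h.card_center_inf_range hx hxA hM)
    calc Nat.card (h.dPow hx (k + 2)).ker = Nat.card f.ker * Nat.card f.range := h1.symm
      _ ≤ (Nat.card (centerIn S) * p ^ k) * p := Nat.mul_le_mul (h2.trans ih) h3
      _ = Nat.card (centerIn S) * p ^ (k + 1) := by rw [pow_succ, mul_assoc]

/-- `S / Z(S)` has maximal class. -/
theorem not_lowerCentralSeries_le_center (h : Setup p S A) {x : Ω} (hx : x ∈ S) (hxA : x ∉ A)
    (hM : (centerIn S).relIndex (h.midA hx) = p) {m : ℕ} (hm : (centerIn S).relIndex S = p ^ m)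
    (h2 : 2 ≤ m) : ¬ Subgroup.lowerCentralSeries S (m - 2) ≤ centerIn S := by
  intro hle
  have := h.finite
  have hp := (Fact.out : p.Prime)
  obtain ⟨j, rfl⟩ : ∃ j, m = j + 2 := ⟨m - 2, by omega⟩
  rw [show j + 2 - 2 = j from rfl] at hle
  have htop : (h.dPow hx (j + 1)).ker = ⊤ := eq_top_iff.2 fun a _ =>
    (h.dHom_eq_one_iff hx hxA).2 (hle (h.dPow_mem_lowerCentralSeries hx j a))
  have h1 := h.card_ker_dPow hx hxA hM j
  rw [htop, Subgroup.card_top] at h1
  have h3 := Subgroup.relIndex_mul_relIndex _ A S h.center_le h.le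
  rw [hm, h.index, pow_succ] at h3
  have h4 : (centerIn S).relIndex A = p ^ (j + 1) := Nat.eq_of_mul_eq_mul_right hp.pos h3
  have h5 := Subgroup.card_mul_index ((centerIn S).subgroupOf A)
  rw [Nat.card_congr (Subgroup.subgroupOfEquivOfLe h.center_le).toEquiv,
    show ((centerIn S).subgroupOf A).index = p ^ (j + 1) from h4] at h5
  have hpos : 0 < Nat.card (centerIn S) := by
    rcases Nat.eq_zero_or_pos (Nat.card (centerIn S)) with e | e
    · rw [e, zero_mul] at h5; exact absurd h5.symm Nat.card_pos.ne'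
    · exact e
  rw [← h5, Nat.mul_le_mul_left_iff hpos, pow_succ] at h1
  have := pow_pos hp.pos j
  nlinarith [hp.two_le]

end Setup

end CfsgLib.FusionIndexP

namespace CfsgLib.FusionIndexP.Setup

open Cfsg Cfsg.FusionSystem CfsgLib.Fusion

variable {Ω : Type*} [Group Ω] {S A : Subgroup Ω} {p : ℕ} [Fact p.Prime] [Finite S]

/-- In a nonabelian subgroup outside `A` the central elements are central in `S`. -/
theorem mem_center_of_central (h : Setup p S A) {P : Subgroup Ω} (hP : P ≤ S) (hne : ¬ P ≤ A)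
    (hnc : ¬ IsMulCommutative P) {z : P} (hz : ∀ u : P, z * u = u * z) : (z : Ω) ∈ centerIn S := by
  by_cases hzA : (z : Ω) ∈ A
  · obtain ⟨x, hxP, hxA⟩ := SetLike.not_le_iff_exists.1 hne
    exact h.mem_center_of_comm (hP hxP) hxA hzA (congrArg Subtype.val (hz ⟨x, hxP⟩)).symm
  · exfalso
    refine hnc ⟨⟨fun u v => ?_⟩⟩
    have hi : (A.subgroupOf P).index = p := h.relIndex_eq hP hne
    have htop := CfsgLib.PGroup.AbelianMax.sup_zpowers_eq_top (A.subgroupOf P)
      (hi.symm ▸ Fact.out) z hzA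
    have hcen : ∀ w : P, (⊤ : Subgroup P) ≤ Subgroup.centralizer {w} := fun w => by
      rw [← htop]
      refine sup_le (fun a ha => Subgroup.mem_centralizer_singleton_iff.2 (Subtype.ext ?_))
        (Subgroup.zpowers_le.2 (Subgroup.mem_centralizer_singleton_iff.2 (hz w)))
      exact ((mem_centerIn.1 (h.mem_center_of_comm (hP z.2) hzA ha
        (congrArg Subtype.val (hz a)))).2 w (hP w.2)).symm
    exact Subgroup.mem_centralizer_singleton_iff.1 (hcen v (Subgroup.mem_top u))

/-- An abelian subgroup outside `A` containing the centre is centralised modulo it by its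
normalizer. -/
theorem comm_mem_center (h : Setup p S A) {P : Subgroup Ω} [IsMulCommutative P] (hP : P ≤ S)
    (hne : ¬ P ≤ A) {g : Ω} (hg : g ∈ normalizerIn S P) {y : Ω} (hy : y ∈ P) :
    y⁻¹ * (g * y * g⁻¹) ∈ centerIn S := by
  obtain ⟨x, hxP, hxA⟩ := SetLike.not_le_iff_exists.1 hne
  have hn := h.normal
  have : IsCyclic (S ⧸ A.subgroupOf S) :=
    isCyclic_of_prime_card (p := p) (by rw [← Subgroup.index_eq_card]; exact h.index)
  have := IsCyclic.isMulCommutative (α := S ⧸ A.subgroupOf S)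
  have hmem : (⟨y, hP hy⟩ : S)⁻¹ * (⟨g, hg.1⟩ * ⟨y, hP hy⟩ * (⟨g, hg.1⟩ : S)⁻¹) ∈
      A.subgroupOf S := by
    refine (QuotientGroup.eq_one_iff _).1 ?_
    show QuotientGroup.mk' (A.subgroupOf S) _ = 1
    rw [map_mul, map_mul, map_mul, map_inv, map_inv,
      mul_comm' (QuotientGroup.mk' (A.subgroupOf S) ⟨g, hg.1⟩)
        (QuotientGroup.mk' (A.subgroupOf S) ⟨y, hP hy⟩),
      mul_inv_cancel_right, inv_mul_cancel]
  exact h.mem_center_of_comm (hP hxP) hxA hmem (congrArg Subtype.val
    (mul_comm' (⟨x, hxP⟩ : P) ⟨_, P.mul_mem (P.inv_mem hy) (conj_mem_of_mem_normalizer hg.2 hy)⟩))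

end CfsgLib.FusionIndexP.Setup
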