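import Cfsg.Agent.Lib.FusionIndexP.CoreFree
import Cfsg.Agent.Lib.FusionIndexP.CenterIndexGroup
import Cfsg.Agent.Lib.FusionAut.HyperfocalFactor

/-!
# Saturated systems on groups whose centre has index `p ^ 2`
-/

set_option autoImplicit false

namespace CfsgLib.FusionIndexP

open Cfsg Cfsg.FusionSystem CfsgLib.Fusion
open scoped commutatorElement IsMulCommutative

variable {Ω : Type*} [Group Ω] {S : Subgroup Ω} {p : ℕ} [Fact p.Prime] {F : Cfsg.FusionSystem S}

theorem mem_centerIn_coe {x : S} : (x : Ω) ∈ centerIn S ↔ x ∈ Subgroup.center S := by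
  rw [mem_centerIn, Subgroup.mem_center_iff]
  exact ⟨fun h g => Subtype.ext (h.2 g g.2), fun h => ⟨x.2, fun s hs =>
    congrArg Subtype.val (h ⟨s, hs⟩)⟩⟩

theorem centerIn_subgroupOf (S : Subgroup Ω) :
    (centerIn S).subgroupOf S = Subgroup.center S :=
  Subgroup.ext fun _ => mem_centerIn_coe

theorem centerIn_eq_map (S : Subgroup Ω) : centerIn S = (Subgroup.center S).map S.subtype := by
  rw [← centerIn_subgroupOf, Subgroup.map_subgroupOf_eq_of_le (centerIn_le S)]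

theorem comm_mem_center_of_index_sq [Finite S] (hi : (Subgroup.center S).index = p ^ 2) {g y : Ω}
    (hg : g ∈ S) (hy : y ∈ S) : y⁻¹ * (g * y * g⁻¹) ∈ centerIn S := by
  have h1 : ⁅(⟨y, hy⟩ : S)⁻¹, ⟨g, hg⟩⁆ ∈ Subgroup.center S :=
    commutator_le_center_of_index_sq hi
      (Subgroup.commutator_mem_commutator (Subgroup.mem_top _) (Subgroup.mem_top _))
  have h2 := mem_centerIn_coe.2 h1
  simpa [commutatorElement_def, mul_assoc] using h2

theorem card_center_inf_commutator_of_index_sq [Finite S]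
    (hi : (Subgroup.center S).index = p ^ 2) :
    Nat.card (centerIn S ⊓ (commutator S).map S.subtype : Subgroup Ω) = p := by
  have hle : (commutator S).map S.subtype ≤ centerIn S := by
    rintro _ ⟨c, hc, rfl⟩
    exact mem_centerIn_coe.2 (commutator_le_center_of_index_sq hi hc)
  rw [inf_eq_right.2 hle, Subgroup.card_map_of_injective S.subtype_injective,
    card_commutator_of_index_sq hi]

/-- The shape of an essential subgroup. -/
theorem essential_of_index_sq [Finite S] (hS : IsPGroup p S) (hF : F.IsSaturated p)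
    (hi : (Subgroup.center S).index = p ^ 2) {P : Subgroup Ω} (hP : F.IsEssential p P) :
    centerIn S ≤ P ∧ IsMulCommutative P ∧ (centerIn S).relIndex P = p ∧ P.relIndex S = p ∧
      ∀ g ∈ normalizerIn S P, ∀ x ∈ P, x⁻¹ * (g * x * g⁻¹) ∈ centerIn S := by
  have hp := (Fact.out : p.Prime)
  have hPS : P ≤ S := hP.1.1
  obtain ⟨hlt, -, -⟩ := exists_outer_of_isEssential hS hF hP
  have hcen := centralizerIn_le_of_isCentric hP.1
  have hZP : centerIn S ≤ P := fun z hz => hcen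
    (mem_centralizerIn.2 ⟨hz.1, fun y hy => (mem_centerIn.1 hz).2 y (hPS hy)⟩)
  have hiS : (centerIn S).relIndex S = p ^ 2 := by
    show ((centerIn S).subgroupOf S).index = _
    rw [centerIn_subgroupOf, hi]
  have h1 := Subgroup.relIndex_mul_relIndex _ _ _ hZP hPS
  rw [hiS] at h1
  have hne1 : (centerIn S).relIndex P ≠ 1 := fun e => by
    have hPZ : P = centerIn S := le_antisymm (Subgroup.relIndex_eq_one.1 e) hZP
    refine not_le_of_gt hlt fun s hs => hcen (mem_centralizerIn.2 ⟨hs, fun y hy => ?_⟩)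
    exact ((mem_centerIn.1 (hPZ.le hy)).2 s hs).symm
  have hne2 : P.relIndex S ≠ 1 := fun e => not_le_of_gt hlt (Subgroup.relIndex_eq_one.1 e)
  obtain ⟨a, ha, ha'⟩ := (Nat.dvd_prime_pow hp).1 (Dvd.intro _ h1 : (centerIn S).relIndex P ∣ p ^ 2)
  obtain ⟨b, hb, hb'⟩ := (Nat.dvd_prime_pow hp).1 (Dvd.intro_left _ h1 : P.relIndex S ∣ p ^ 2)
  rw [ha', hb', ← pow_add] at h1
  have hab := Nat.pow_right_injective hp.two_le h1
  have ha1 : a = 1 := by
    rcases Nat.eq_zero_or_pos a with rfl | h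
    · exact absurd ha' (by rw [pow_zero]; exact hne1)
    · rcases Nat.eq_zero_or_pos b with rfl | h'
      · exact absurd hb' (by rw [pow_zero]; exact hne2)
      · omega
  have hb1 : b = 1 := by omega
  rw [ha1, pow_one] at ha'
  rw [hb1, pow_one] at hb'
  refine ⟨hZP, ?_, ha', hb', fun g hg x hx => comm_mem_center_of_index_sq hi hg.1 (hPS hx)⟩
  obtain ⟨x, hxP, hxZ⟩ : ∃ x ∈ P, x ∉ centerIn S := by
    by_contra hc
    push Not at hc
    exact hne1 (Subgroup.relIndex_eq_one.2 hc)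
  have hZi : ((centerIn S).subgroupOf P).index = p := ha'
  have htop := CfsgLib.PGroup.AbelianMax.sup_zpowers_eq_top ((centerIn S).subgroupOf P)
    (hZi.symm ▸ hp) ⟨x, hxP⟩ hxZ
  refine ⟨⟨fun u v => ?_⟩⟩
  have hcomm : ∀ v : P, (⊤ : Subgroup P) ≤ Subgroup.centralizer {v} := by
    intro v
    rw [← htop]
    refine sup_le (fun z hz => Subgroup.mem_centralizer_singleton_iff.2 ?_)
      (Subgroup.zpowers_le.2 (Subgroup.mem_centralizer_singleton_iff.2 ?_))
    · exact Subtype.ext ((mem_centerIn.1 hz).2 v (hPS v.2)).symm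
    · have hle : (⊤ : Subgroup P) ≤ Subgroup.centralizer {(⟨x, hxP⟩ : P)} := by
        rw [← htop]
        exact sup_le (fun z hz => Subgroup.mem_centralizer_singleton_iff.2
          (Subtype.ext ((mem_centerIn.1 hz).2 x (hPS hxP)).symm))
          (Subgroup.zpowers_le.2 (Subgroup.mem_centralizer_singleton_iff.2 rfl))
      exact (Subgroup.mem_centralizer_singleton_iff.1 (hle (Subgroup.mem_top v))).symm
  exact Subgroup.mem_centralizer_singleton_iff.1 (hcomm v (Subgroup.mem_top u))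

theorem exists_essential_of_core_eq_bot [Finite S] (hS : IsPGroup p S) (hF : F.IsSaturated p)
    (hne : S ≠ ⊥) (hcore : F.core = ⊥) : ∃ P, F.IsEssential p P := by
  by_contra hc
  push Not at hc
  refine hne (eq_bot_of_isNormal_of_core hcore ((isNormal_iff_essential hS hF).2 fun Q hQ => ?_))
  rcases hQ with rfl | hQ
  · exact ⟨le_rfl, fun α _ => map_eq_of_invariant le_rfl le_rfl fun x _ => (α x).2⟩
  · exact absurd hQ (hc Q)

/-- For odd `p`. -/
theorem odd_index_sq [Finite S] (hS : IsPGroup p S) (hF : F.IsSaturated p) (hne : S ≠ ⊥)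
    (hcore : F.core = ⊥) (hi : (Subgroup.center S).index = p ^ 2) (hp2 : p ≠ 2) :
    centerIn S ≤ (commutator S).map S.subtype ∧ ∀ P : Subgroup Ω, F.IsEssential p P →
      ∀ x ∈ P, x ^ p = 1 := by
  have hL := card_center_inf_commutator_of_index_sq hi
  obtain ⟨P, hP⟩ := exists_essential_of_core_eq_bot hS hF hne hcore
  obtain ⟨hZP, hPc, hPi, -, hPn⟩ := essential_of_index_sq hS hF hi hP
  haveI := hPc
  have hle := center_le_commutator_of_core_eq_bot hS hF hp2 hcore hL hP hZP hPi hPn fun Q hQ => by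
    obtain ⟨hZQ, hQc, hQi, -, hQn⟩ := essential_of_index_sq hS hF hi hQ
    exact ⟨hZQ, Or.inl ⟨hQc, hQi, hQn⟩⟩
  refine ⟨hle, fun Q hQ x hx => ?_⟩
  have hcardZ : Nat.card (centerIn S) = p := by rw [← hL, inf_eq_left.2 hle]
  obtain ⟨hZQ, hQc, hQi, -, hQn⟩ := essential_of_index_sq hS hF hi hQ
  haveI := hQc
  obtain ⟨W, l, l₁, hsp, -, -⟩ := exists_split_of_essential hS hF hQ hZQ hQi
    (fun g hg z hz => (mem_centerIn.1 hz).2 g hg.1) hQn
  have hxm : (⟨x, hx⟩ : Q) ∈ (centerIn S).subgroupOf Q ⊔ Subgroup.zpowers l₁ :=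
    hsp.sup_top.ge (Subgroup.mem_top _)
  obtain ⟨z, hz, u, hu, e⟩ := Subgroup.mem_sup.1 hxm
  obtain ⟨n, rfl⟩ := Subgroup.mem_zpowers_iff.1 hu
  have hzp : z ^ p = 1 := by
    have h := pow_card_eq_one' (x := (⟨(z : Ω), hz⟩ : centerIn S))
    rw [hcardZ] at h
    exact Subtype.ext (by rw [Subgroup.coe_pow]; exact congrArg Subtype.val h)
  have hl : (l₁ ^ n) ^ p = 1 := by
    rw [← zpow_natCast, ← zpow_mul, mul_comm, zpow_mul, zpow_natCast, hsp.l₁_pow, one_zpow]
  have : (⟨x, hx⟩ : Q) ^ p = 1 := by rw [← e, mul_pow, hzp, hl, mul_one]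
  exact congrArg Subtype.val this

section Two

variable [Finite S] (hS : IsPGroup 2 S) (hF : F.IsSaturated 2)
  (hi : (Subgroup.center S).index = 2 ^ 2)

include hi in
/-- Three involutions in distinct non-central cosets force the commutator to be a square in the
centre. -/
theorem false_of_three_involutions {W : Subgroup Ω} {l : Ω} (hW : W ≤ centerIn S)
    (hWl : ∀ z ∈ centerIn S, ∃ w ∈ W, ∃ n : ℤ, z = w * l ^ n) (hlW : l ∉ W) (hl2 : l * l = 1)
    (hl : ∀ c ∈ (commutator S).map S.subtype, c = 1 ∨ c = l) {a b z : Ω} (ha : a ∈ S) (hb : b ∈ S)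
    (haa : a * a = 1) (hbb : b * b = 1) (hz : z ∈ centerIn S) (hab : a * b ≠ b * a)
    (hc : a * b * z * (a * b * z) = 1) : False := by
  have hzc := (mem_centerIn.1 hz).2
  have hai : a⁻¹ = a := inv_eq_of_mul_eq_one_right haa
  have hbi : b⁻¹ = b := inv_eq_of_mul_eq_one_right hbb
  have hcm : a * b * (a * b) ∈ (commutator S).map S.subtype :=
    ⟨⁅(⟨a, ha⟩ : S), ⟨b, hb⟩⁆,
      Subgroup.commutator_mem_commutator (Subgroup.mem_top _) (Subgroup.mem_top _), by
      show a * b * a⁻¹ * b⁻¹ = a * b * (a * b)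
      rw [hai, hbi]; simp [mul_assoc]⟩
  rcases hl _ hcm with h | h
  · refine hab ?_
    calc a * b = (a * b)⁻¹ := eq_inv_of_mul_eq_one_left h
      _ = b * a := by rw [mul_inv_rev, hai, hbi]
  · have h2 : a * b * z * (a * b * z) = a * b * (a * b) * (z * z) := by
      have := hzc (a * b) (S.mul_mem ha hb)
      calc a * b * z * (a * b * z) = a * b * (z * (a * b)) * z := by simp [mul_assoc]
        _ = a * b * ((a * b) * z) * z := by rw [this]
        _ = _ := by simp [mul_assoc]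
    rw [h2, h] at hc
    obtain ⟨w, hw, n, hzw⟩ := hWl z hz
    subst hzw
    have hlZ : l ∈ centerIn S := h ▸ (mem_centerIn_coe.2
      (commutator_le_center_of_index_sq hi (Subgroup.commutator_mem_commutator
        (Subgroup.mem_top (⟨a, ha⟩ : S)) (Subgroup.mem_top (⟨b, hb⟩ : S)))) |> fun h' => by
          have e : a * b * (a * b) = ((⁅(⟨a, ha⟩ : S), ⟨b, hb⟩⁆ : S) : Ω) := by
            show a * b * (a * b) = a * b * a⁻¹ * b⁻¹
            rw [hai, hbi]; simp [mul_assoc]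
          rw [e]; exact h')
    have hcw : Commute w (l ^ n) :=
      Commute.zpow_right ((mem_centerIn.1 (hW hw)).2 l (centerIn_le S hlZ)).symm n
    have hll : (l ^ n) * (l ^ n) = 1 := by
      rw [← (Commute.refl l).mul_zpow, hl2, one_zpow]
    have e3 : w * l ^ n * (w * l ^ n) = w * w := by
      calc w * l ^ n * (w * l ^ n) = w * (l ^ n * w) * l ^ n := by simp [mul_assoc]
        _ = w * (w * l ^ n) * l ^ n := by rw [hcw.symm.eq]
        _ = w * w * (l ^ n * l ^ n) := by simp [mul_assoc]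
        _ = w * w := by rw [hll, mul_one]
    rw [e3] at hc
    refine hlW ?_
    rw [eq_inv_of_mul_eq_one_left hc]
    exact inv_mem (mul_mem hw hw)

include hS hF hi in
/-- `W`, `l₁` for an essential subgroup. -/
theorem exists_split_two {P : Subgroup Ω} (hP : F.IsEssential 2 P) :
    ∃ (W : Subgroup Ω) (l l₁ : Ω), W ≤ centerIn S ∧ l ∈ centerIn S ∧ l ∉ W ∧ l * l = 1 ∧
      (∀ z ∈ centerIn S, ∃ w ∈ W, ∃ n : ℤ, z = w * l ^ n) ∧
      (∀ c ∈ (commutator S).map S.subtype, c = 1 ∨ c = l) ∧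
      l₁ ∈ P ∧ l₁ ∉ centerIn S ∧ l₁ * l₁ = 1 ∧
      (∀ α ∈ F.autGroup P, ∀ x : P, (x : Ω) ∈ W → ((α x : P) : Ω) ∈ W) ∧
      (∀ g ∈ F.autGroup P, ∃ h ∈ F.autGroup P, (∀ x : P, (x : Ω) ∈ W → h x = x) ∧
        ∀ x : P, (x : Ω) ∈ centerIn S → ((h (g x) : P) : Ω) ∈ centerIn S) ∧
      (∀ g ∈ F.autGroup P, (∀ x : P, (x : Ω) ∈ W → g x = x) →
        ∀ x : P, (x : Ω)⁻¹ * (g x : P) ∈ Subgroup.zpowers l ⊔ Subgroup.zpowers l₁) := by
  obtain ⟨hZP, hPc, hPi, -, hPn⟩ := essential_of_index_sq hS hF hi hP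
  haveI := hPc
  obtain ⟨W, l, l₁, hsp, hstab, -⟩ := exists_split_of_essential hS hF hP hZP hPi
    (fun g hg z hz => (mem_centerIn.1 hz).2 g hg.1) hPn
  have hL := card_center_inf_commutator_of_index_sq hi
  have hWm : ∀ x : P, (x : Ω) ∈ W.map P.subtype → x ∈ W := fun x ⟨w, hw, e⟩ => by
    obtain rfl : w = x := Subtype.ext e
    exact hw
  refine ⟨W.map P.subtype, l, l₁, ?_, hsp.l_mem, fun h => hsp.l_notMem (hWm l h), ?_, ?_, ?_, l₁.2,
    hsp.l₁_notMem, ?_, fun α hα x hx => ⟨_, hsp.W_inv α hα _ (hWm x hx), rfl⟩,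
    fun g hg => ?_, fun g hg hfix x => ?_⟩
  · rintro _ ⟨w, hw, rfl⟩
    exact hsp.W_le hw
  · have := hsp.l_pow
    rw [pow_two] at this
    exact congrArg Subtype.val this
  · intro z hz
    have hzm : (⟨z, hZP hz⟩ : P) ∈ W ⊔ Subgroup.zpowers l := hsp.W_sup.ge hz
    obtain ⟨w, hw, u, hu, e⟩ := Subgroup.mem_sup.1 hzm
    obtain ⟨n, rfl⟩ := Subgroup.mem_zpowers_iff.1 hu
    exact ⟨w, ⟨w, hw, rfl⟩, n, (congrArg Subtype.val e).symm.trans (by simp)⟩
  · intro c hc
    obtain ⟨c', hc', rfl⟩ := hc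
    have hcZ : ((c' : S) : Ω) ∈ centerIn S :=
      mem_centerIn_coe.2 (commutator_le_center_of_index_sq hi hc')
    obtain ⟨n, hn⟩ := Subgroup.mem_zpowers_iff.1
      ((hsp.mem_zpowers_iff hP.1.1 hstab hL (x := ⟨(c' : Ω), hZP hcZ⟩) hcZ).1 ⟨c', hc', rfl⟩)
    have hn' : (l : Ω) ^ n = (c' : Ω) := by rw [← Subgroup.coe_zpow, hn]
    rcases Int.even_or_odd n with ⟨k, rfl⟩ | ⟨k, rfl⟩
    · left
      show (c' : Ω) = 1
      rw [← hn', ← Subgroup.coe_zpow, ← two_mul, zpow_mul,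
        show l ^ (2 : ℤ) = 1 by rw [zpow_ofNat]; exact hsp.l_pow, one_zpow, Subgroup.coe_one]
    · right
      show (c' : Ω) = l
      rw [← hn', ← Subgroup.coe_zpow, zpow_add, zpow_mul,
        show l ^ (2 : ℤ) = 1 by rw [zpow_ofNat]; exact hsp.l_pow, one_zpow, one_mul, zpow_one]
  · have := hsp.l₁_pow
    rw [pow_two] at this
    exact congrArg Subtype.val this
  · obtain ⟨h, hh, hfix, hback⟩ := hsp.exists_back g hg
    exact ⟨h, hh, fun x hx => hfix x (hWm x hx), fun x hx => hback x hx⟩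
  · have hxm : x ∈ W ⊔ Subgroup.zpowers l ⊔ Subgroup.zpowers l₁ := by
      rw [hsp.W_sup, hsp.sup_top]; exact Subgroup.mem_top _
    rw [sup_assoc] at hxm
    obtain ⟨w, hw, e, he, rfl⟩ := Subgroup.mem_sup.1 hxm
    have h1 : e⁻¹ * g e ∈ Subgroup.zpowers l ⊔ Subgroup.zpowers l₁ :=
      mul_mem (inv_mem he) (hsp.E_inv g hg e he)
    have h2 : ((w * e : P) : Ω)⁻¹ * (g (w * e) : P) = ((e⁻¹ * g e : P) : Ω) := by
      rw [← Subgroup.coe_inv, ← Subgroup.coe_mul, map_mul, hfix w ⟨w, hw, rfl⟩, mul_inv_rev,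
        mul_assoc, inv_mul_cancel_left]
    rw [h2]
    have hle : (Subgroup.zpowers l ⊔ Subgroup.zpowers l₁).map P.subtype ≤
        Subgroup.zpowers (l : Ω) ⊔ Subgroup.zpowers (l₁ : Ω) := by
      rw [Subgroup.map_sup, MonoidHom.map_zpowers, MonoidHom.map_zpowers]
      exact le_rfl
    exact hle ⟨_, h1, rfl⟩

end Two

end CfsgLib.FusionIndexP
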