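import Cfsg.Agent.Lib.FusionIndexP.SmallCenter
import Cfsg.Agent.Lib.TwoFusion.DihedralIso

/-!
# The even case: the group is dihedral of order eight
-/

set_option autoImplicit false

namespace CfsgLib.FusionIndexP

open Cfsg Cfsg.FusionSystem CfsgLib.Fusion
open scoped commutatorElement

variable {Ω : Type*} [Group Ω] {S : Subgroup Ω} {F : Cfsg.FusionSystem S}

/-- The cosets of three pairwise different outer elements fill `S / Z(S)`. -/
theorem three_cosets [Finite S] (hi : (Subgroup.center S).index = 2 ^ 2) {a b c : S}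
    (ha : a ∉ Subgroup.center S) (hb : b ∉ Subgroup.center S) (hc : c ∉ Subgroup.center S)
    (hab : a⁻¹ * b ∉ Subgroup.center S) (hac : a⁻¹ * c ∉ Subgroup.center S)
    (hbc : b⁻¹ * c ∉ Subgroup.center S) :
    (a * b)⁻¹ * c ∈ Subgroup.center S ∧ a * b ≠ b * a := by
  classical
  haveI : Fact (Nat.Prime 2) := ⟨Nat.prime_two⟩
  set mk := QuotientGroup.mk' (Subgroup.center S)
  have hmk : ∀ u : S, mk u = 1 ↔ u ∈ Subgroup.center S := fun u => QuotientGroup.eq_one_iff u
  have hne : ∀ {u v : S}, u⁻¹ * v ∉ Subgroup.center S → mk u ≠ mk v := fun h e =>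
    h ((hmk _).1 (by rw [map_mul, map_inv, e, inv_mul_cancel]))
  have h1 : ∀ {u : S}, u ∉ Subgroup.center S → mk u ≠ 1 := fun h e => h ((hmk _).1 e)
  letI : Fintype (S ⧸ Subgroup.center S) := Fintype.ofFinite _
  have hcard : Fintype.card (S ⧸ Subgroup.center S) = 4 := by
    rw [← Nat.card_eq_fintype_card, ← Subgroup.index_eq_card, hi]; norm_num
  have hsq : ∀ u : S, mk u * mk u = 1 := fun u => by
    rw [← map_mul, hmk, ← pow_two]
    exact pow_mem_center_of_index_sq hi u
  have hf : ∀ x, x = 1 ∨ x = mk a ∨ x = mk b ∨ x = mk (a * b) := by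
    intro x
    by_contra hx
    push Not at hx
    obtain ⟨hx1, hx2, hx3, hx4⟩ := hx
    have hab1 : mk (a * b) ≠ 1 := fun e => hne hab (by
      rw [map_mul] at e
      exact mul_left_cancel ((hsq a).trans e.symm))
    have hab2 : mk (a * b) ≠ mk a := fun e => h1 hb (by rwa [map_mul, mul_eq_left] at e)
    have hab3 : mk (a * b) ≠ mk b := fun e => h1 ha (by rwa [map_mul, mul_eq_right] at e)
    have h5 := Finset.card_le_univ ({1, mk a, mk b, mk (a * b), x} : Finset (S ⧸ Subgroup.center S))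
    rw [hcard, Finset.card_insert_of_notMem (by
        simp only [Finset.mem_insert, Finset.mem_singleton, not_or]
        exact ⟨(h1 ha).symm, (h1 hb).symm, hab1.symm, Ne.symm hx1⟩),
      Finset.card_insert_of_notMem (by
        simp only [Finset.mem_insert, Finset.mem_singleton, not_or]
        exact ⟨hne hab, hab2.symm, Ne.symm hx2⟩),
      Finset.card_insert_of_notMem (by
        simp only [Finset.mem_insert, Finset.mem_singleton, not_or]
        exact ⟨hab3.symm, Ne.symm hx3⟩),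
      Finset.card_insert_of_notMem (by
        simp only [Finset.mem_singleton]
        exact Ne.symm hx4), Finset.card_singleton] at h5
    omega
  refine ⟨?_, fun hcomm => ha (Subgroup.mem_center_iff.2 fun g => ?_)⟩
  · rw [← hmk, map_mul, map_inv, inv_mul_eq_one]
    rcases hf (mk c) with h | h | h | h
    · exact absurd h (h1 hc)
    · exact absurd h.symm (hne hac)
    · exact absurd h.symm (hne hbc)
    · exact h.symm
  · have key : ∀ u : S, u * a = a * u → mk g = mk u → g * a = a * g := by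
      intro u hu e
      have hz : u⁻¹ * g ∈ Subgroup.center S :=
        (hmk _).1 (by rw [map_mul, map_inv, e, inv_mul_cancel])
      calc g * a = u * ((u⁻¹ * g) * a) := by simp [mul_assoc]
        _ = u * (a * (u⁻¹ * g)) := by rw [← Subgroup.mem_center_iff.1 hz a]
        _ = u * a * (u⁻¹ * g) := by rw [mul_assoc]
        _ = a * u * (u⁻¹ * g) := by rw [hu]
        _ = a * g := by simp [mul_assoc]
    rcases hf (mk g) with h | h | h | h
    · exact key 1 (by simp) (by rw [h, map_one])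
    · exact key a rfl h
    · exact key b hcomm.symm h
    · exact key (a * b) (by rw [mul_assoc, ← hcomm]) h

section Main

variable [Finite S] (hS : IsPGroup 2 S) (hF : F.IsSaturated 2)
  (hi : (Subgroup.center S).index = 2 ^ 2)

/-- An element of an essential subgroup outside the centre gives both cosets. -/
theorem mem_or_mem_of_relIndex_two {Z P : Subgroup Ω} (hPi : Z.relIndex P = 2) {a u : Ω}
    (ha : a ∈ P) (haZ : a ∉ Z) (hu : u ∈ P) : u ∈ Z ∨ a⁻¹ * u ∈ Z := by
  by_cases huZ : u ∈ Z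
  · exact Or.inl huZ
  · right
    have hidx : (Z.subgroupOf P).index = 2 := hPi
    have : (⟨a, ha⟩ : P)⁻¹ * ⟨u, hu⟩ ∈ Z.subgroupOf P :=
      (Subgroup.mul_mem_iff_of_index_two hidx).2
        (iff_of_false (fun h => haZ (by simpa using (Z.subgroupOf P).inv_mem h :)) huZ)
    exact this

include hS hF hi in
theorem not_three_involutions {P : Subgroup Ω} (hP : F.IsEssential 2 P) {a b c : S}
    (ha : a * a = 1) (hb : b * b = 1) (hc : c * c = 1) (haZ : a ∉ Subgroup.center S)
    (hbZ : b ∉ Subgroup.center S) (hcZ : c ∉ Subgroup.center S)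
    (hab : a⁻¹ * b ∉ Subgroup.center S) (hac : a⁻¹ * c ∉ Subgroup.center S)
    (hbc : b⁻¹ * c ∉ Subgroup.center S) : False := by
  obtain ⟨hz, hne⟩ := three_cosets hi haZ hbZ hcZ hab hac hbc
  obtain ⟨W, l, l₁, hW, -, hlW, hl2, hWl, hl, -⟩ := exists_split_two hS hF hi hP
  refine false_of_three_involutions hi hW hWl hlW hl2 hl a.2 b.2 (congrArg Subtype.val ha)
    (congrArg Subtype.val hb) (z := (((a * b)⁻¹ * c : S) : Ω)) (mem_centerIn_coe.2 hz)
    (fun e => hne (Subtype.ext e)) ?_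
  have e : (a : Ω) * b * (((a * b)⁻¹ * c : S) : Ω) = c := by simp [mul_assoc]
  rw [e]
  exact congrArg Subtype.val hc

include hS hF hi in
/-- An automorphism of `S` of odd order fixes each essential subgroup. -/
theorem odd_aut_invariant {σ : MulAut S} (hσ : (orderOf σ).Coprime 2) {P : Subgroup Ω}
    (hP : F.IsEssential 2 P) {x : S} (hx : (x : Ω) ∈ P) : ((σ x : S) : Ω) ∈ P := by
  obtain ⟨W, l, l₁, -, -, -, -, -, -, hl₁P, hl₁Z, hl₁2, -⟩ := exists_split_two hS hF hi hP
  obtain ⟨hZP, -, hPi, -, -⟩ := essential_of_index_sq hS hF hi hP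
  set a : S := ⟨l₁, hP.1.1 hl₁P⟩ with hadef
  have haZ : a ∉ Subgroup.center S := fun h => hl₁Z (mem_centerIn_coe.2 h)
  have haa : a * a = 1 := Subtype.ext hl₁2
  have hcen : ∀ (τ : MulAut S) {u : S}, u ∈ Subgroup.center S → τ u ∈ Subgroup.center S :=
    fun τ u hu => mem_centerIn_coe.1 (aut_mem_center (mem_centerIn_coe.2 hu))
  have hout : ∀ (τ : MulAut S) {u : S}, u ∉ Subgroup.center S → τ u ∉ Subgroup.center S :=
    fun τ u hu h => hu (by simpa using hcen τ⁻¹ h)
  have hfix : a⁻¹ * σ a ∈ Subgroup.center S := by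
    by_contra hn
    have h2 : (σ a)⁻¹ * σ (σ a) ∉ Subgroup.center S := by
      rw [← map_inv, ← map_mul]
      exact hout σ hn
    have h3 : a⁻¹ * σ (σ a) ∉ Subgroup.center S := by
      intro h
      have hpow : ∀ k : ℕ, a⁻¹ * ((σ * σ) ^ k) a ∈ Subgroup.center S := by
        intro k
        induction k with
        | zero => simp
        | succ k ih =>
          have := mul_mem h (hcen (σ * σ) ih)
          have e : a⁻¹ * σ (σ a) * (σ * σ) (a⁻¹ * ((σ * σ) ^ k) a) =
              a⁻¹ * ((σ * σ) ^ (k + 1)) a := by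
            simp [map_mul, pow_succ', MulAut.mul_apply, mul_assoc]
          rwa [e] at this
      obtain ⟨j, hj⟩ : Odd (orderOf σ) := Nat.coprime_two_right.1 hσ
      have := hpow (j + 1)
      rw [← pow_two, ← pow_mul, show 2 * (j + 1) = orderOf σ + 1 by omega, pow_succ,
        pow_orderOf_eq_one, one_mul] at this
      exact hn this
    exact not_three_involutions hS hF hi hP haa
      (by rw [← map_mul, haa, map_one]) (by rw [← map_mul, ← map_mul, haa, map_one, map_one])
      haZ (hout σ haZ) (hout σ (hout σ haZ)) hn h3 h2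
  rcases mem_or_mem_of_relIndex_two hPi hl₁P hl₁Z hx with h | h
  · exact hZP (mem_centerIn_coe.2 (hcen σ (mem_centerIn_coe.1 h)))
  · have h' : a⁻¹ * x ∈ Subgroup.center S := (mem_centerIn_coe (x := a⁻¹ * x)).1 h
    have e : σ x = a * (a⁻¹ * σ a) * σ (a⁻¹ * x) := by simp [map_mul]
    rw [e]
    exact P.mul_mem (P.mul_mem hl₁P (hZP (mem_centerIn_coe.2 hfix)))
      (hZP (mem_centerIn_coe.2 (hcen σ h')))

include hS hF in
theorem exists_odd_extension {α : MulAut (centerIn S)} (hα : α ∈ F.autGroup (centerIn S)) :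
    ∃ σ ∈ F.autGroup S, (orderOf σ).Coprime 2 ∧
      ∀ z : centerIn S, ((σ ⟨z, centerIn_le S z.2⟩ : S) : Ω) = α z := by
  haveI : Fact (Nat.Prime 2) := ⟨Nat.prime_two⟩
  have : Finite (centerIn S) := finite_of_le (centerIn_le S)
  have : Finite (MulAut (centerIn S)) := finite_mulAut
  have : Finite (MulAut S) := finite_mulAut
  obtain ⟨σ, hσ, hσx⟩ := exists_top_extension hS hF hα
  have hco : (orderOf α).Coprime 2 :=
    Nat.Coprime.coprime_dvd_left (Subgroup.orderOf_dvd_natCard _ hα) (coprime_autGroup_center hS hF)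
  obtain ⟨k, hk, hak⟩ := CfsgLib.FusionAut.exists_power_coprime σ hco
  refine ⟨σ ^ k, pow_mem hσ k, hk, fun z => ?_⟩
  have key : ∀ (n : ℕ) (z : centerIn S),
      (((σ ^ n) ⟨z, centerIn_le S z.2⟩ : S) : Ω) = ((α ^ n) z : centerIn S) := by
    intro n
    induction n with
    | zero => intro z; rfl
    | succ n ih =>
      intro z
      rw [pow_succ', MulAut.mul_apply, pow_succ', MulAut.mul_apply, ← hσx]
      exact congrArg (fun t : S => ((σ t : S) : Ω)) (Subtype.ext (ih z))
  rw [key k z, hak]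

include hS hF hi in
/-- The automorphism group of the centre is trivial when no subgroup is normal in the system. -/
theorem autGroup_center_trivial (hcore : F.core = ⊥) {α : MulAut (centerIn S)}
    (hα : α ∈ F.autGroup (centerIn S)) (z : centerIn S) : α z = z := by
  haveI : Fact (Nat.Prime 2) := ⟨Nat.prime_two⟩
  set Y : Subgroup Ω := Subgroup.closure
    {y | ∃ β ∈ F.autGroup (centerIn S), ∃ z : centerIn S, y = ((z⁻¹ * β z : centerIn S) : Ω)}
    with hY
  have hYZ : Y ≤ centerIn S := (Subgroup.closure_le _).2 (by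
    rintro _ ⟨β, -, z, rfl⟩
    exact (z⁻¹ * β z).2)
  have hlfix : ∀ β ∈ F.autGroup (centerIn S), ∀ {P : Subgroup Ω}, F.IsEssential 2 P →
      ∀ w : centerIn S, (w : Ω) ∈ (commutator S).map S.subtype → β w = w := by
    intro β hβ P hP w hw
    obtain ⟨W, l, l₁, -, -, -, -, -, hl, -⟩ := exists_split_two hS hF hi hP
    rcases hl _ hw with h | h
    · rw [show w = 1 from Subtype.ext h, map_one]
    · rcases hl _ (mem_commutator_of_mem_autGroup hS hF hβ hw) with h' | h'
      · exfalso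
        have hw1 : w = 1 := β.injective ((Subtype.ext h').trans (map_one β).symm)
        rw [hw1] at h' h
        obtain ⟨W', l', -, -, -, hlW', -⟩ := exists_split_two hS hF hi hP
        exact absurd h (fun h => by
          obtain ⟨W'', l'', l₁'', -, -, hl'', -, -, hl'''', -⟩ := exists_split_two hS hF hi hP
          have hne := card_center_inf_commutator_of_index_sq hi
          have hsub : centerIn S ⊓ (commutator S).map S.subtype ≤ ⊥ := fun c hc => by
            rcases hl c hc.2 with e | e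
            · exact e
            · exact e.trans h.symm
          rw [le_bot_iff.1 hsub, Subgroup.card_bot] at hne
          omega)
      · exact Subtype.ext (h'.trans h.symm)
  -- `Y` lies in each `W`
  have hYW : ∀ {P : Subgroup Ω}, F.IsEssential 2 P → ∀ {W : Subgroup Ω} {l : Ω},
      W ≤ centerIn S → (∀ z ∈ centerIn S, ∃ w ∈ W, ∃ n : ℤ, z = w * l ^ n) →
      l ∈ (commutator S).map S.subtype → l ∈ centerIn S →
      (∀ α ∈ F.autGroup P, ∀ x : P, (x : Ω) ∈ W → ((α x : P) : Ω) ∈ W) → Y ≤ W := by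
    intro P hP W l hW hWl hlc hlZ hinv
    have : Finite P := finite_of_le hP.1.1
    refine (Subgroup.closure_le _).2 ?_
    rintro _ ⟨β, hβ, z, rfl⟩
    obtain ⟨σ, hσ, hσo, hσx⟩ := exists_odd_extension hS hF hβ
    have hφ := restrict_mem ((mem_autGroup_iff_hom le_rfl).1 hσ) hP.1.1
    obtain ⟨g, hg, hgx⟩ := exists_aut hφ (range_eq_of_le (hom_inj hφ) fun x =>
      odd_aut_invariant hS hF hi hσo hP x.2)
    obtain ⟨w, hw, n, e⟩ := hWl z z.2
    have hz : z = ⟨w, hW hw⟩ * (⟨l, hlZ⟩ : centerIn S) ^ n := Subtype.ext (by simpa using e)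
    have h1 : ((β ⟨w, hW hw⟩ : centerIn S) : Ω) ∈ W := by
      have hZP := (essential_of_index_sq hS hF hi hP).1
      have := hinv g hg ⟨w, hZP (hW hw)⟩ hw
      rw [hgx] at this
      rw [← hσx]
      exact this
    have h2 : z⁻¹ * β z = (⟨w, hW hw⟩ : centerIn S)⁻¹ * β ⟨w, hW hw⟩ := by
      have hcl : Commute (⟨w, hW hw⟩ : centerIn S)⁻¹ ((⟨l, hlZ⟩ : centerIn S) ^ n)⁻¹ :=
        Subtype.ext ((mem_centerIn.1 (Subtype.coe_prop ((⟨l, hlZ⟩ : centerIn S) ^ n)⁻¹)).2 _
          (centerIn_le S (Subtype.coe_prop (⟨w, hW hw⟩ : centerIn S)⁻¹)))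
      rw [hz, map_mul, map_zpow, hlfix β hβ hP ⟨l, hlZ⟩ hlc, mul_inv_rev, ← hcl.eq,
        mul_assoc, ← mul_assoc ((⟨l, hlZ⟩ : centerIn S) ^ n)⁻¹]
      have hcl2 : ((⟨l, hlZ⟩ : centerIn S) ^ n)⁻¹ * β ⟨w, hW hw⟩ =
          β ⟨w, hW hw⟩ * ((⟨l, hlZ⟩ : centerIn S) ^ n)⁻¹ :=
        Subtype.ext ((mem_centerIn.1 (β ⟨w, hW hw⟩).2).2 _
          (centerIn_le S (Subtype.coe_prop _)))
      rw [hcl2, inv_mul_cancel_right]
    rw [h2]
    exact W.mul_mem (W.inv_mem hw) h1
  have hYinv : ∀ β ∈ F.autGroup (centerIn S), ∀ y : centerIn S, (y : Ω) ∈ Y → (β y : Ω) ∈ Y := by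
    intro β hβ y hy
    have hle : Y ≤ ((Y.subgroupOf (centerIn S)).comap β.toMonoidHom).map (centerIn S).subtype := by
      refine (Subgroup.closure_le _).2 ?_
      rintro _ ⟨γ, hγ, w, rfl⟩
      refine ⟨w⁻¹ * γ w, ?_, rfl⟩
      show (β (w⁻¹ * γ w) : Ω) ∈ Y
      refine Subgroup.subset_closure ⟨β * γ * β⁻¹, mul_mem (mul_mem hβ hγ) (inv_mem hβ), β w, ?_⟩
      rw [MulAut.mul_apply, MulAut.mul_apply, MulAut.inv_apply_self, map_mul, map_inv]
    obtain ⟨y', hy', e⟩ := hle hy
    rw [← show y' = y from Subtype.ext e]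
    exact hy'
  have hlc : ∀ {P : Subgroup Ω}, F.IsEssential 2 P → ∀ {l : Ω},
      (∀ c ∈ (commutator S).map S.subtype, c = 1 ∨ c = l) →
      l ∈ (commutator S).map S.subtype := by
    intro P _ l hl
    by_contra h
    have hne := card_center_inf_commutator_of_index_sq hi
    have hsub : centerIn S ⊓ (commutator S).map S.subtype ≤ ⊥ := fun c hc => by
      rcases hl c hc.2 with e | e
      · exact e
      · exact absurd (e ▸ hc.2) h
    rw [le_bot_iff.1 hsub, Subgroup.card_bot] at hne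
    omega
  have hbot : Y = ⊥ := by
    refine eq_bot_of_isNormal_of_core hcore ((isNormal_iff_essential hS hF).2 fun Q hQ => ?_)
    rcases hQ with rfl | hQ
    · refine ⟨hYZ.trans (centerIn_le _), fun σ hσ =>
        map_eq_of_invariant le_rfl (hYZ.trans (centerIn_le _)) fun x hx => ?_⟩
      obtain ⟨β, hβ, hβx⟩ := exists_restrict ((mem_autGroup_iff_hom le_rfl).1 hσ) (centerIn_le _)
        (fun u hu => aut_mem_center hu)
      have := hYinv β hβ ⟨x, hYZ hx⟩ hx
      rwa [hβx] at this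
    obtain ⟨W, l, l₁, hW, hlZ, -, -, hWl, hl, -, -, -, hinv, hback, -⟩ :=
      exists_split_two hS hF hi hQ
    have hZQ := (essential_of_index_sq hS hF hi hQ).1
    have hle := hYW hQ hW hWl (hlc hQ hl) hlZ hinv
    refine ⟨hYZ.trans hZQ, fun g hg => map_eq_of_invariant hQ.1.1 (hYZ.trans hZQ) fun x hx => ?_⟩
    obtain ⟨h, hh, hfix, hhg⟩ := hback g hg
    obtain ⟨β, hβ, hβx⟩ := exists_restrict ((mem_autGroup_iff_hom hQ.1.1).1 (mul_mem hh hg)) hZQ
      (fun u hu => hhg u hu)
    have h1 := hYinv β hβ ⟨x, hYZ hx⟩ hx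
    rw [hβx] at h1
    have h2 : h (h (g x)) = h (g x) := hfix _ (hle h1)
    have h3 := h.injective h2
    have h4 : ((h (g x) : Q) : Ω) ∈ Y := h1
    rwa [h3] at h4
  have hmem : ((z⁻¹ * α z : centerIn S) : Ω) ∈ Y := Subgroup.subset_closure ⟨α, hα, z, rfl⟩
  rw [hbot, Subgroup.mem_bot] at hmem
  have h1 : z⁻¹ * α z = 1 := Subtype.ext hmem
  rw [inv_mul_eq_one] at h1
  exact h1.symm

include hS hF hi in
/-- Every map is trivial modulo the subgroup generated by the involutions of the essential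
subgroups. -/
theorem hom_mod (hcore : F.core = ⊥) (hne : S ≠ ⊥) {M : Subgroup Ω} (hMS : M ≤ S)
    (hMc : (commutator S).map S.subtype ≤ M)
    (hM : ∀ P : Subgroup Ω, F.IsEssential 2 P → ∀ g ∈ F.autGroup P,
      ∀ x : P, (x : Ω)⁻¹ * (g x : P) ∈ M)
    {P : Subgroup Ω} {φ : P →* Ω} (hφ : φ ∈ F.Hom P) (x : P) : (x : Ω)⁻¹ * φ x ∈ M := by
  haveI : Fact (Nat.Prime 2) := ⟨Nat.prime_two⟩
  have hcomm : ∀ g ∈ S, ∀ y ∈ S, y⁻¹ * (g * y * g⁻¹) ∈ (commutator S).map S.subtype := by
    intro g hg y hy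
    refine ⟨⁅(⟨y, hy⟩ : S)⁻¹, ⟨g, hg⟩⁆,
      Subgroup.commutator_mem_commutator (Subgroup.mem_top _) (Subgroup.mem_top _), ?_⟩
    simp [commutatorElement_def, mul_assoc]
  let E : Cfsg.FusionSystem S :=
    { Hom := fun Q => {ψ | ψ ∈ F.Hom Q ∧ ∀ y : Q, (y : Ω)⁻¹ * ψ y ∈ M}
      le_of_mem := fun h => F.le_of_mem h.1
      injective_of_mem := fun h => F.injective_of_mem h.1
      conj_mem := by
        intro Q g hQ hg
        refine ⟨F.conj_mem hQ hg, fun y => ?_⟩
        rw [conjHom_apply]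
        exact hMc (hcomm g hg y (hQ y.2))
      comp_mem := by
        rintro Q R φ ψ ⟨hφ, hφ'⟩ ⟨hψ, hψ'⟩ hr
        refine ⟨F.comp_mem hφ hψ hr, fun y => ?_⟩
        have := M.mul_mem (hφ' y) (hψ' ⟨φ y, hr y⟩)
        simpa [mul_assoc] using this
      inv_mem := by
        rintro Q φ ⟨hφ, hφ'⟩
        obtain ⟨ψ, hψ, hinv⟩ := F.inv_mem hφ
        refine ⟨ψ, ⟨hψ, ?_⟩, hinv⟩
        rintro ⟨_, y, rfl⟩
        rw [hinv]
        simpa using M.inv_mem (hφ' y) }
  have hle := alperin hS hF E fun Q hQ g hg => by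
    rcases hQ with rfl | hQ
    · refine (mem_autGroup_iff_hom le_rfl).2 ⟨(mem_autGroup_iff_hom le_rfl).1 hg, fun y => hMc ?_⟩
      show (y : Ω)⁻¹ * ((g y : Q) : Ω) ∈ (commutator Q).map Q.subtype
      have : Finite (MulAut Q) := finite_mulAut
      obtain ⟨P₀, hP₀⟩ := exists_essential_of_core_eq_bot hS hF hne hcore
      obtain ⟨hZP, hPc, hPi, hPS2, -⟩ := essential_of_index_sq hS hF hi hP₀
      -- automorphisms of odd order are trivial
      have hodd : ∀ σ ∈ F.autGroup Q, (orderOf σ).Coprime 2 → σ = 1 := by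
        intro σ hσ hσo
        obtain ⟨n, hn⟩ := IsPGroup.iff_card.1 hS
        have hcop : (orderOf σ).Coprime (Nat.card Q) := by
          rw [hn]; exact hσo.pow_right n
        have hZfix : ∀ d ∈ (centerIn Q).subgroupOf Q, σ d = d := by
          intro d hd
          obtain ⟨β, hβ, hβx⟩ := exists_restrict ((mem_autGroup_iff_hom le_rfl).1 hσ)
            (centerIn_le _) (fun u hu => aut_mem_center hu)
          have := autGroup_center_trivial hS hF hi hcore hβ ⟨d, hd⟩
          refine Subtype.ext ?_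
          have h1 := hβx ⟨d, hd⟩
          rw [this] at h1
          exact h1.symm
        have hPfix : ∀ d ∈ P₀.subgroupOf Q, σ d = d := by
          intro d hd
          have hidx : ((centerIn Q).subgroupOf P₀).index = 2 := hPi
          refine CfsgLib.FusionAut.fix_of_coprime hcop hZfix ?_
          have hd' := odd_aut_invariant hS hF hi hσo hP₀ hd
          show (d : Ω)⁻¹ * ((σ d : Q) : Ω) ∈ centerIn Q
          have : (⟨d, hd⟩ : P₀)⁻¹ * ⟨(σ d : Q), hd'⟩ ∈ (centerIn Q).subgroupOf P₀ := by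
            rw [Subgroup.mul_mem_iff_of_index_two hidx, Subgroup.inv_mem_iff]
            show (d : Ω) ∈ centerIn Q ↔ ((σ d : Q) : Ω) ∈ centerIn Q
            exact ⟨fun h => aut_mem_center h, fun h => by
              simpa using aut_mem_center (σ := σ⁻¹) h⟩
          exact this
        refine MulEquiv.ext fun u => ?_
        refine CfsgLib.FusionAut.fix_of_coprime hcop hPfix ?_
        have hidx : (P₀.subgroupOf Q).index = 2 := hPS2
        rw [Subgroup.mul_mem_iff_of_index_two hidx, Subgroup.inv_mem_iff]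
        show (u : Ω) ∈ P₀ ↔ ((σ u : Q) : Ω) ∈ P₀
        exact ⟨fun h => odd_aut_invariant hS hF hi hσo hP₀ h, fun h => by
          simpa using odd_aut_invariant hS hF hi (σ := σ⁻¹) (by rwa [orderOf_inv]) hP₀ h⟩
      have hp2 : IsPGroup 2 (F.autGroup Q) := by
        refine IsPGroup.of_card (n := (Nat.card (F.autGroup Q)).primeFactorsList.length)
          (Nat.eq_prime_pow_of_unique_prime_dvd Nat.card_pos.ne' fun {q} hq hqd => ?_)
        by_contra hq2
        haveI := Fact.mk hq
        obtain ⟨⟨σ, hσ⟩, hord⟩ := exists_prime_orderOf_dvd_card' (G := F.autGroup Q) q hqd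
        replace hord : orderOf σ = q := (Subgroup.orderOf_coe _).trans hord
        have := hodd σ hσ (by rw [hord]; exact (Nat.coprime_primes hq Nat.prime_two).2 hq2)
        rw [this, orderOf_one] at hord
        exact hq.one_lt.ne hord
      obtain ⟨-, T, hT⟩ := isFullyAutomized_of_isFullyNormalized hS hF (isFullyNormalized_top F)
      have htop : (T : Subgroup (F.autGroup Q)) = ⊤ :=
        (T.3 (IsPGroup.to_subgroup hp2 ⊤) le_top).symm
      have hmem : (⟨g, hg⟩ : F.autGroup Q) ∈ (T : Subgroup (F.autGroup Q)) :=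
        htop ▸ Subgroup.mem_top _
      rw [hT] at hmem
      obtain ⟨u, hu, huQ, e⟩ := exists_eq_conjAut (Subgroup.mem_subgroupOf.1 hmem)
      rw [show g = conjAut Q u hu from e]
      exact hcomm u huQ y y.2
    · exact (mem_autGroup_iff_hom hQ.1.1).2
        ⟨(mem_autGroup_iff_hom hQ.1.1).1 hg, fun y => hM Q hQ g hg y⟩
  exact (hle P hφ).2 x

include hS hF hi in
theorem dihedral_of_index_sq (hne : S ≠ ⊥) (hcore : F.core = ⊥)
    (hhyp : F.hyperfocalSubgroup 2 = S) :
    Nonempty (S ≃* DihedralGroup 4) ∧ Subgroup.center S ≤ commutator S := by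
  classical
  haveI : Fact (Nat.Prime 2) := ⟨Nat.prime_two⟩
  choose W l l₁ hW hlZ hlW hl2 hWl hl hl₁P hl₁Z hl₁2 hinv hback hE using
    fun P => exists_split_two (P := P) hS hF hi
  -- all maps of an essential subgroup fix its `W`
  have hfixW : ∀ P (hP : F.IsEssential 2 P), ∀ g ∈ F.autGroup P,
      ∀ x : P, (x : Ω) ∈ W P hP → g x = x := by
    intro P hP g hg x hx
    obtain ⟨h, hh, hfix, hhg⟩ := hback P hP g hg
    have hZP := (essential_of_index_sq hS hF hi hP).1
    obtain ⟨β, hβ, hβx⟩ := exists_restrict ((mem_autGroup_iff_hom hP.1.1).1 (mul_mem hh hg)) hZP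
      (fun u hu => hhg u hu)
    have h1 := autGroup_center_trivial hS hF hi hcore hβ ⟨x, hW P hP hx⟩
    have h2 : ((h (g x) : P) : Ω) = x := ((hβx ⟨x, hW P hP hx⟩).symm.trans (by rw [h1]) :)
    exact h.injective ((Subtype.ext h2 : h (g x) = x).trans (hfix x hx).symm)
  set T : Set Ω := {y | ∃ P, ∃ hP : F.IsEssential 2 P, y = l P hP ∨ y = l₁ P hP}
  set M := Subgroup.closure T with hMdef
  have hMS : M ≤ S := (Subgroup.closure_le _).2 (by
    rintro _ ⟨P, hP, rfl | rfl⟩
    exacts [centerIn_le S (hlZ P hP), hP.1.1 (hl₁P P hP)])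
  obtain ⟨P, hP⟩ := exists_essential_of_core_eq_bot hS hF hne hcore
  have hMc : (commutator S).map S.subtype ≤ M := fun c hc => by
    rcases hl P hP c hc with rfl | rfl
    · exact one_mem _
    · exact Subgroup.subset_closure ⟨P, hP, Or.inl rfl⟩
  have hSM : S ≤ M := by
    conv_lhs => rw [← hhyp]
    refine CfsgLib.FusionAut.hyperfocalSubgroup_le fun Q α hQ hα _ x => ?_
    refine hom_mod hS hF hi hcore hne hMS hMc (fun R hR g hg y => ?_)
      ((mem_autGroup_iff_hom hQ).1 hα) x
    refine (sup_le ?_ ?_ : Subgroup.zpowers (l R hR) ⊔ Subgroup.zpowers (l₁ R hR) ≤ M)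
      (hE R hR g hg (hfixW R hR g hg) y)
    · exact Subgroup.zpowers_le.2 (Subgroup.subset_closure ⟨R, hR, Or.inl rfl⟩)
    · exact Subgroup.zpowers_le.2 (Subgroup.subset_closure ⟨R, hR, Or.inr rfl⟩)
  have heq : ∀ {P Q : Subgroup Ω} (hP : F.IsEssential 2 P) (hQ : F.IsEssential 2 Q),
      (l₁ P hP)⁻¹ * l₁ Q hQ ∈ centerIn S → P = Q := by
    intro P Q hP hQ h
    obtain ⟨hZP, -, hPi, -, -⟩ := essential_of_index_sq hS hF hi hP
    obtain ⟨hZQ, -, hQi, -, -⟩ := essential_of_index_sq hS hF hi hQ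
    have h1 : l₁ Q hQ ∈ P := by
      simpa using P.mul_mem (hl₁P P hP) (hZP h)
    refine le_antisymm (fun u hu => ?_) fun u hu => ?_
    · rcases mem_or_mem_of_relIndex_two hPi h1 (hl₁Z Q hQ) hu with e | e
      · exact hZQ e
      · simpa using Q.mul_mem (hl₁P Q hQ) (hZQ e)
    · rcases mem_or_mem_of_relIndex_two hQi (hl₁P Q hQ) (hl₁Z Q hQ) hu with e | e
      · exact hZP e
      · simpa using P.mul_mem h1 (hZP e)
  have hlall : ∀ R (hR : F.IsEssential 2 R), l R hR ∈ (commutator S).map S.subtype ∧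
      l R hR = l P hP := by
    intro R hR
    have hne' := card_center_inf_commutator_of_index_sq hi
    obtain ⟨c, hc, hc1⟩ : ∃ c ∈ (commutator S).map S.subtype, c ≠ 1 := by
      by_contra hno
      push Not at hno
      have : centerIn S ⊓ (commutator S).map S.subtype ≤ ⊥ := fun c hc => hno c hc.2
      rw [le_bot_iff.1 this, Subgroup.card_bot] at hne'
      omega
    have e1 := (hl R hR c hc).resolve_left hc1
    have e2 := (hl P hP c hc).resolve_left hc1
    exact ⟨e1 ▸ hc, e1.symm.trans e2⟩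
  obtain ⟨Q, hQ, hQP⟩ : ∃ Q, ∃ _ : F.IsEssential 2 Q, Q ≠ P := by
    by_contra hno
    push Not at hno
    have hle : M ≤ P := (Subgroup.closure_le _).2 (by
      rintro _ ⟨R, hR, rfl | rfl⟩ <;> obtain rfl := hno R hR
      exacts [(essential_of_index_sq hS hF hi hR).1 (hlZ _ hR), hl₁P _ hR])
    exact (exists_outer_of_isEssential hS hF hP).1.not_ge (hSM.trans hle)
  have hzz : ∀ {R : Subgroup Ω} (hR : F.IsEssential 2 R),
      (⟨l₁ R hR, hR.1.1 (hl₁P R hR)⟩ : S) ∉ Subgroup.center S := fun hR h =>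
    hl₁Z _ hR (mem_centerIn_coe.2 h)
  set a : S := ⟨l₁ P hP, hP.1.1 (hl₁P P hP)⟩ with hadef
  set b : S := ⟨l₁ Q hQ, hQ.1.1 (hl₁P Q hQ)⟩ with hbdef
  have haa : a * a = 1 := Subtype.ext (hl₁2 P hP)
  have hbb : b * b = 1 := Subtype.ext (hl₁2 Q hQ)
  have hab0 : a⁻¹ * b ∉ Subgroup.center S := fun h => hQP (heq hP hQ (mem_centerIn_coe.2 h :)).symm
  have honly : ∀ R (hR : F.IsEssential 2 R), R = P ∨ R = Q := by
    intro R hR
    by_contra hno
    push Not at hno
    exact not_three_involutions hS hF hi hP haa hbb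
      (c := ⟨l₁ R hR, hR.1.1 (hl₁P R hR)⟩) (Subtype.ext (hl₁2 R hR)) (hzz hP) (hzz hQ) (hzz hR)
      hab0 (fun h => hno.1 (heq hP hR (mem_centerIn_coe.2 h :)).symm)
      (fun h => hno.2 (heq hQ hR (mem_centerIn_coe.2 h :)).symm)
  have hai : a⁻¹ = a := inv_eq_of_mul_eq_one_right haa
  have hbi : b⁻¹ = b := inv_eq_of_mul_eq_one_right hbb
  have hnc : a * b ≠ b * a := by
    intro hcomm
    -- then `a` would centralise `S`
    have hle : S ≤ Subgroup.centralizer {(a : Ω)} := hSM.trans ((Subgroup.closure_le _).2 (by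
      rintro _ ⟨R, hR, rfl | rfl⟩
      · exact Subgroup.mem_centralizer_singleton_iff.2 ((mem_centerIn.1 (hlZ R hR)).2 a a.2).symm
      · rcases honly R hR with rfl | rfl
        · exact Subgroup.mem_centralizer_singleton_iff.2 rfl
        · exact Subgroup.mem_centralizer_singleton_iff.2 (congrArg Subtype.val hcomm).symm))
    exact hzz hP (Subgroup.mem_center_iff.2 fun g =>
      Subtype.ext (Subgroup.mem_centralizer_singleton_iff.1 (hle g.2)))
  set c := a * b with hcdef
  have hc2 : ((c * c : S) : Ω) = l P hP := by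
    refine (hl P hP _ ⟨⁅a, b⁆, Subgroup.commutator_mem_commutator (Subgroup.mem_top _)
      (Subgroup.mem_top _), ?_⟩).resolve_left fun h => hnc ?_
    · show ((⁅a, b⁆ : S) : Ω) = ((c * c : S) : Ω)
      rw [commutatorElement_def, hai, hbi, hcdef, mul_assoc (a * b)]
    · have h' : c * c = 1 := Subtype.ext h
      calc a * b = (a * b)⁻¹ := eq_inv_of_mul_eq_one_left h'
        _ = b * a := by rw [mul_inv_rev, hai, hbi]
  have hc4 : c ^ (4 : ℕ) = 1 := by
    refine Subtype.ext ?_
    rw [show (4 : ℕ) = 2 * 2 from rfl, pow_mul, pow_two, pow_two, Subgroup.coe_mul, hc2]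
    exact hl2 P hP
  have hco : orderOf c = 2 ^ 2 := by
    refine orderOf_eq_prime_pow (n := 1) (fun h => hnc ?_) hc4
    rw [pow_one, pow_two] at h
    calc a * b = (a * b)⁻¹ := eq_inv_of_mul_eq_one_left h
      _ = b * a := by rw [mul_inv_rev, hai, hbi]
  have hinvc : a * c * a⁻¹ = c⁻¹ := by
    rw [hcdef, ← mul_assoc, haa, one_mul, hai, mul_inv_rev, hai, hbi]
  have hanot : a ∉ Subgroup.zpowers c := by
    intro h
    obtain ⟨k, hk⟩ := Subgroup.mem_zpowers_iff.1 h
    have hcm : a * c = c * a := by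
      rw [← hk]; exact ((Commute.refl c).zpow_left k).eq
    rw [hcdef, ← mul_assoc, haa, one_mul] at hcm
    refine hnc ?_
    calc a * b = a * (a * b * a) := by rw [← hcm]
      _ = b * a := by rw [← mul_assoc, ← mul_assoc, haa, one_mul]
  let D : Subgroup S :=
    { carrier := {g | ∃ i : ℤ, g = c ^ i ∨ g = a * c ^ i}
      one_mem' := ⟨0, Or.inl (zpow_zero c).symm⟩
      mul_mem' := by
        have hflip : ∀ i : ℤ, c ^ i * a = a * c ^ (-i) := by
          intro i
          have h1 : a * c ^ i * a⁻¹ = (c ^ i)⁻¹ := by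
            rw [← MulAut.conj_apply, map_zpow, MulAut.conj_apply, hinvc, inv_zpow]
          calc c ^ i * a = a * (a * c ^ i * a⁻¹) := by
                rw [← mul_assoc, ← mul_assoc, haa, one_mul, hai]
            _ = a * c ^ (-i) := by rw [h1, zpow_neg]
        rintro u v ⟨i, rfl | rfl⟩ ⟨j, rfl | rfl⟩
        · exact ⟨i + j, Or.inl (zpow_add c i j).symm⟩
        · exact ⟨-i + j, Or.inr (by rw [← mul_assoc, hflip, mul_assoc, ← zpow_add])⟩
        · exact ⟨i + j, Or.inr (by rw [mul_assoc, ← zpow_add])⟩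
        · refine ⟨-i + j, Or.inl ?_⟩
          rw [mul_assoc, ← mul_assoc (c ^ i), hflip, mul_assoc, ← mul_assoc, haa, one_mul,
            ← zpow_add]
      inv_mem' := by
        rintro u ⟨i, rfl | rfl⟩
        · exact ⟨-i, Or.inl (zpow_neg c i).symm⟩
        · refine ⟨i, Or.inr ?_⟩
          have h1 : a * c ^ i * a⁻¹ = (c ^ i)⁻¹ := by
            rw [← MulAut.conj_apply, map_zpow, MulAut.conj_apply, hinvc, inv_zpow]
          rw [mul_inv_rev, ← h1, hai]
          simp [mul_assoc, haa] }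
  have hD : D = ⊤ := by
    refine eq_top_iff.2 fun g _ => ?_
    have hle : M ≤ D.map S.subtype := (Subgroup.closure_le _).2 (by
      rintro _ ⟨R, hR, rfl | rfl⟩
      · rw [(hlall R hR).2, ← hc2]
        exact ⟨c * c, ⟨2, Or.inl (by rw [zpow_ofNat, pow_two])⟩, rfl⟩
      · rcases honly R hR with rfl | rfl
        · exact ⟨a, ⟨0, Or.inr (by rw [zpow_zero, mul_one])⟩, rfl⟩
        · exact ⟨b, ⟨1, Or.inr (by rw [zpow_one, hcdef, ← mul_assoc, haa, one_mul])⟩, rfl⟩)
    obtain ⟨g', hg', e⟩ := hle (hSM g.2)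
    rwa [← show g' = g from Subtype.ext e]
  obtain ⟨e⟩ := CfsgLib.TwoFusion.exists_dihedral_mulEquiv (m := 4) (by norm_num) hco haa hinvc
    hanot (⊤ : Subgroup S) (fun g => ⟨fun _ => (hD.ge (Subgroup.mem_top g) : g ∈ D),
      fun _ => Subgroup.mem_top g⟩)
  refine ⟨⟨Subgroup.topEquiv.symm.trans e⟩, ?_⟩
  have h8 : Nat.card S = 8 := by
    rw [Nat.card_congr (Subgroup.topEquiv.symm.trans e).toEquiv, DihedralGroup.nat_card]
  have hZ2 : Nat.card (Subgroup.center S) = 2 := by
    have := Subgroup.card_mul_index (Subgroup.center S)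
    rw [hi, h8] at this
    omega
  exact (Subgroup.eq_of_le_of_card_ge (commutator_le_center_of_index_sq hi)
    (le_of_eq (hZ2.trans (card_commutator_of_index_sq hi).symm))).ge

end Main

end CfsgLib.FusionIndexP
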