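import Mathlib.GroupTheory.PGroup
import Mathlib.GroupTheory.Index

/-!
# Automorphisms of an abelian `p`-group whose Sylow subgroup fixes a maximal subgroup

`G` acts on the finite abelian `p`-group `X`, the stabiliser `K` of the series `1 ≤ Z < X`
(`|X : Z| = p`) is a Sylow subgroup of `G` and not every member of `G` fixes `Z`. Then `X` is the
product of a `G`-invariant subgroup `W ≤ Z` and a `G`-invariant elementary abelian `E` of order
`p ^ 2`.
-/

set_option autoImplicit false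

namespace CfsgLib.FusionIndexP

variable {X : Type*} [CommGroup X] {p : ℕ} [Fact p.Prime]

/-- The stabiliser of the series `1 ≤ Z ≤ X` in `G`. -/
def stab (G : Subgroup (MulAut X)) (Z : Subgroup X) : Subgroup (MulAut X) where
  carrier := {g | g ∈ G ∧ (∀ z ∈ Z, g z = z) ∧ ∀ y, y⁻¹ * g y ∈ Z}
  one_mem' := ⟨one_mem _, fun z _ => rfl, fun y => by simp⟩
  mul_mem' := by
    rintro a b ⟨ha, ha1, ha2⟩ ⟨hb, hb1, hb2⟩
    refine ⟨mul_mem ha hb, fun z hz => by rw [MulAut.mul_apply, hb1 z hz, ha1 z hz], fun y => ?_⟩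
    have := mul_mem (hb2 y) (ha2 (b y))
    rwa [← MulAut.mul_apply, mul_assoc, mul_inv_cancel_left] at this
  inv_mem' := by
    rintro a ⟨ha, ha1, ha2⟩
    refine ⟨inv_mem ha, fun z hz => ?_, fun y => ?_⟩
    · conv_lhs => rw [← ha1 z hz, MulAut.inv_apply_self]
    · have := inv_mem (ha2 (a⁻¹ y))
      simpa using this

theorem mem_stab {G : Subgroup (MulAut X)} {Z : Subgroup X} {g : MulAut X} :
    g ∈ stab G Z ↔ g ∈ G ∧ (∀ z ∈ Z, g z = z) ∧ ∀ y, y⁻¹ * g y ∈ Z := Iff.rfl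

theorem pow_apply_of_fix {Z : Subgroup X} {g : MulAut X} (hg : ∀ z ∈ Z, g z = z) {y : X}
    (hy : y⁻¹ * g y ∈ Z) (n : ℕ) : (g ^ n) y = y * (y⁻¹ * g y) ^ n := by
  induction n with
  | zero => simp
  | succ n ih =>
    rw [pow_succ', MulAut.mul_apply, ih, map_mul, map_pow, hg _ hy, pow_succ', ← mul_assoc,
      mul_inv_cancel_left]

theorem isPGroup_stab [Finite X] (hX : IsPGroup p X) (G : Subgroup (MulAut X)) (Z : Subgroup X) :
    IsPGroup p (stab G Z) := by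
  obtain ⟨N, hN⟩ := IsPGroup.iff_card.1 hX
  rintro ⟨g, hg, hg1, hg2⟩
  refine ⟨N, Subtype.ext (MulEquiv.ext fun y => ?_)⟩
  show (g ^ p ^ N) y = y
  rw [pow_apply_of_fix hg1 (hg2 y), ← hN, pow_card_eq_one', mul_one]

/-- The conclusion: the invariant decomposition. -/
structure Split (p : ℕ) (G : Subgroup (MulAut X)) (Z W : Subgroup X) (l l₁ : X) : Prop where
  l_mem : l ∈ Z
  l₁_notMem : l₁ ∉ Z
  W_le : W ≤ Z
  l_notMem : l ∉ W
  l_pow : l ^ p = 1
  l₁_pow : l₁ ^ p = 1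
  W_sup : W ⊔ Subgroup.zpowers l = Z
  sup_top : Z ⊔ Subgroup.zpowers l₁ = ⊤
  W_inf : W ⊓ (Subgroup.zpowers l ⊔ Subgroup.zpowers l₁) = ⊥
  card_stab : Nat.card (stab G Z) = p
  stab_mem : ∀ k ∈ stab G Z, ∀ y, y⁻¹ * k y ∈ Subgroup.zpowers l
  l_eq : ∃ k ∈ stab G Z, ∃ y, l = y⁻¹ * k y
  W_inv : ∀ g ∈ G, ∀ x ∈ W, g x ∈ W
  E_inv : ∀ g ∈ G, ∀ x ∈ Subgroup.zpowers l ⊔ Subgroup.zpowers l₁,
    g x ∈ Subgroup.zpowers l ⊔ Subgroup.zpowers l₁
  exists_back : ∀ g ∈ G, ∃ h ∈ G, (∀ x ∈ W, h x = x) ∧ ∀ x ∈ Z, h (g x) ∈ Z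
  exists_neg : ∃ τ ∈ G, (∀ x ∈ W, τ x = x) ∧ τ l = l⁻¹ ∧ τ l₁ = l₁⁻¹

/-- In a group in which `V` has index `p`, every element outside generates over `V`. -/
theorem sup_zpowers_eq_of_relIndex {V U : Subgroup X} (hVU : V ≤ U) (hi : V.relIndex U = p)
    {x : X} (hxU : x ∈ U) (hx : x ∉ V) : V ⊔ Subgroup.zpowers x = U := by
  have hle : V ⊔ Subgroup.zpowers x ≤ U := sup_le hVU (Subgroup.zpowers_le.2 hxU)
  refine le_antisymm hle (Subgroup.relIndex_eq_one.1 ?_)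
  have h1 := Subgroup.relIndex_mul_relIndex V (V ⊔ Subgroup.zpowers x) U le_sup_left hle
  rw [hi] at h1
  rcases (Fact.out : p.Prime).eq_one_or_self_of_dvd _ ⟨_, h1.symm⟩ with h | h
  · exact absurd (Subgroup.relIndex_eq_one.1 h (Subgroup.mem_sup_right (Subgroup.mem_zpowers x))) hx
  · rw [h] at h1
    exact Nat.eq_of_mul_eq_mul_left (Fact.out : p.Prime).pos (h1.trans (mul_one p).symm)

variable [Finite X] (hX : IsPGroup p X) {G : Subgroup (MulAut X)} {Z : Subgroup X}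
  (hZ : Z.index = p)
  (hmax : ∀ Q : Subgroup (MulAut X), Q ≤ G → IsPGroup p Q → stab G Z ≤ Q → Q = stab G Z)
  (hne : stab G Z ≠ ⊥)

include hX hZ hmax hne in
/-- An element of the stabiliser moving points only inside `Z ⊓ γ Z` is trivial. -/
theorem eq_one_of_commutator_mem {γ : MulAut X} (hγ : γ ∈ G) (hB : Z.map γ.toMonoidHom ≠ Z)
    {t : MulAut X} (ht : t ∈ stab G Z) {y : X} (hy : y ∉ Z) (hty : y⁻¹ * t y ∈ Z.map γ.toMonoidHom) :
    t = 1 := by
  set B := Z.map γ.toMonoidHom with hBdef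
  set W := Z ⊓ B with hW
  have hgen : ∀ x ∉ Z, ∀ g : MulAut X, (∀ z ∈ Z, g z = z) → g x = x → g = 1 := by
    intro x hx g hg hgx
    refine MulEquiv.ext fun u => ?_
    have htop : Z ⊔ Subgroup.zpowers x = ⊤ := sup_zpowers_eq_of_relIndex le_top
      (by rw [Subgroup.relIndex_top_right, hZ]) (Subgroup.mem_top x) hx
    have hall : Z ⊔ Subgroup.zpowers x ≤ g.toMonoidHom.eqLocus (MonoidHom.id X) :=
      sup_le (fun z hz => hg z hz) (Subgroup.zpowers_le.2 hgx)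
    exact hall (htop.ge (Subgroup.mem_top u))
  have hcardB : Nat.card B = Nat.card Z :=
    Subgroup.card_map_of_injective (f := γ.toMonoidHom) γ.injective
  have hBZ : ¬ B ≤ Z := fun h => hB (Subgroup.eq_of_le_of_card_ge h hcardB.ge)
  -- stabiliser of `W`
  have hNK : stab G W ≤ stab G Z := by
    have hnorm : stab G Z ≤ Subgroup.normalizer (stab G W : Set (MulAut X)) := by
      refine Subgroup.le_normalizer_iff.2 fun k hk n hn => ?_
      obtain ⟨hkG, hk1, -⟩ := mem_stab.1 hk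
      obtain ⟨hnG, hn1, hn2⟩ := mem_stab.1 hn
      have hkinv : ∀ w ∈ W, k⁻¹ w = w := fun w hw => by
        conv_lhs => rw [← hk1 w hw.1, MulAut.inv_apply_self]
      refine ⟨mul_mem (mul_mem hkG hnG) (inv_mem hkG), fun w hw => ?_, fun u => ?_⟩
      · simp only [MulAut.mul_apply]
        rw [hkinv w hw, hn1 w hw, hk1 w hw.1]
      · have h := hn2 (k⁻¹ u)
        have := hk1 _ h.1
        rw [map_mul, map_inv, MulAut.apply_inv_self] at this
        show u⁻¹ * k (n (k⁻¹ u)) ∈ W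
        rw [this]
        exact h
    have hp := (isPGroup_stab hX G W).to_sup_of_normal_left' (isPGroup_stab hX G Z) hnorm
    have := hmax _ (sup_le (fun g (hg : g ∈ stab G W) => hg.1) (fun g (hg : g ∈ stab G Z) => hg.1)) hp le_sup_right
    exact le_sup_left.trans this.le
  by_contra ht1
  have htW : y⁻¹ * t y ∈ W := ⟨ht.2.2 y, hty⟩
  have htstab : t ∈ stab G W := by
    refine ⟨ht.1, fun w hw => ht.2.1 w hw.1, fun u => ?_⟩
    have htop : Z ⊔ Subgroup.zpowers y = ⊤ := sup_zpowers_eq_of_relIndex le_top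
      (by rw [Subgroup.relIndex_top_right, hZ]) (Subgroup.mem_top y) hy
    let M : Subgroup X :=
      { carrier := {u | u⁻¹ * t u ∈ W}
        one_mem' := by simp
        mul_mem' := fun {a b} ha hb => by
          have := mul_mem (show a⁻¹ * t a ∈ W from ha) (show b⁻¹ * t b ∈ W from hb)
          rwa [mul_mul_mul_comm, ← map_mul, ← mul_inv] at this
        inv_mem' := fun {a} ha => by
          have := inv_mem (show a⁻¹ * t a ∈ W from ha)
          rwa [mul_inv, ← map_inv] at this }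
    have hM : Z ⊔ Subgroup.zpowers y ≤ M :=
      sup_le (fun z hz => by show z⁻¹ * t z ∈ W; rw [ht.2.1 z hz, inv_mul_cancel]; exact one_mem _)
        (Subgroup.zpowers_le.2 htW)
    exact hM (htop.ge (Subgroup.mem_top u))
  have hK' : ∀ k ∈ stab G Z, ∀ b ∈ B, (γ * k * γ⁻¹) b = b := by
    rintro k hk b ⟨z, hz, rfl⟩
    simp only [MulAut.mul_apply, MulEquiv.coe_toMonoidHom, MulAut.inv_apply_self]
    rw [hk.2.1 z hz]
  have hex : ∃ k ∈ stab G Z, ∃ z ∈ Z, (γ * k * γ⁻¹) z ∉ Z := by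
    by_contra hc
    push Not at hc
    have hsub : ∀ k ∈ stab G Z, γ * k * γ⁻¹ ∈ stab G Z := by
      intro k hk
      have hin : ∀ u, u⁻¹ * (γ * k * γ⁻¹) u ∈ B := fun u => by
        refine ⟨(γ⁻¹ u)⁻¹ * k (γ⁻¹ u), hk.2.2 _, ?_⟩
        simp
      have hu : ∀ u, u⁻¹ * (γ * k * γ⁻¹) u ∈ W := by
        intro u
        refine ⟨?_, hin u⟩
        obtain ⟨b, hb, hbZ⟩ := SetLike.not_le_iff_exists.1 hBZ
        have htop : Z ⊔ Subgroup.zpowers b = ⊤ := sup_zpowers_eq_of_relIndex le_top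
          (by rw [Subgroup.relIndex_top_right, hZ]) (Subgroup.mem_top b) hbZ
        obtain ⟨z, hz, b', hb', rfl⟩ := Subgroup.mem_sup.1 (htop.ge (Subgroup.mem_top u))
        have hb'B : b' ∈ B := (Subgroup.zpowers_le.2 hb) hb'
        rw [map_mul, hK' k hk b' hb'B, mul_inv, mul_mul_mul_comm, inv_mul_cancel, mul_one]
        exact Z.mul_mem (Z.inv_mem hz) (hc k hk z hz)
      exact hNK ⟨mul_mem (mul_mem hγ hk.1) (inv_mem hγ),
        fun w hw => hK' k hk w hw.2, hu⟩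
    obtain ⟨b, hb, hbZ⟩ := SetLike.not_le_iff_exists.1 hBZ
    have : ((stab G Z).map (MulAut.conj γ).toMonoidHom) = stab G Z := by
      refine Subgroup.eq_of_le_of_card_ge ?_ ?_
      · rintro _ ⟨k, hk, rfl⟩
        exact hsub k hk
      · rw [Subgroup.card_map_of_injective (MulAut.conj γ).injective]
    have htB : t b = b := by
      obtain ⟨k, hk, hkt⟩ := this.ge ht
      rw [← hkt]
      exact hK' k hk b hb
    exact ht1 (hgen b hbZ t ht.2.1 htB)
  obtain ⟨k, hk, z, hz, hkz⟩ := hex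
  set u := γ * k * γ⁻¹ with hu
  have huG : u ∈ G := mul_mem (mul_mem hγ hk.1) (inv_mem hγ)
  have hs : u⁻¹ * t * u ∈ stab G W := by
    refine ⟨mul_mem (mul_mem (inv_mem huG) ht.1) huG, fun w hw => ?_, fun v => ?_⟩
    · simp only [MulAut.mul_apply]
      rw [hK' k hk w hw.2, ht.2.1 w hw.1]
      conv_lhs => rw [← hK' k hk w hw.2, MulAut.inv_apply_self]
    · have h := htstab.2.2 (u v)
      have h2 : u⁻¹ ((u v)⁻¹ * t (u v)) = (u v)⁻¹ * t (u v) := by
        conv_lhs => rw [← hK' k hk _ h.2, MulAut.inv_apply_self]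
      rw [map_mul, map_inv, MulAut.inv_apply_self] at h2
      show v⁻¹ * u⁻¹ (t (u v)) ∈ W
      rw [h2]
      exact h
  have hfix := (hNK hs).2.1 z hz
  simp only [MulAut.mul_apply] at hfix
  have : t (u z) = u z := by
    have := congrArg u hfix
    rwa [MulAut.apply_inv_self] at this
  exact ht1 (hgen _ hkz t ht.2.1 this)

include hX hZ hmax hne in
theorem exists_split (hmove : ∃ γ ∈ G, Z.map γ.toMonoidHom ≠ Z) :
    ∃ (W : Subgroup X) (l l₁ : X), Split p G Z W l l₁ := by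
  classical
  have hp := (Fact.out : p.Prime)
  obtain ⟨γ, hγ, hB⟩ := hmove
  set B := Z.map γ.toMonoidHom with hBdef
  set W := Z ⊓ B with hW
  have hrel : ∀ {V : Subgroup X}, V.index = p → V.relIndex ⊤ = p := fun h => by
    rw [Subgroup.relIndex_top_right, h]
  have htop : ∀ {x}, x ∉ Z → Z ⊔ Subgroup.zpowers x = ⊤ := fun hx =>
    sup_zpowers_eq_of_relIndex le_top (hrel hZ) (Subgroup.mem_top _) hx
  have hindex : ∀ g : MulAut X, (Z.map g.toMonoidHom).index = p := fun g =>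
    (Subgroup.index_map_equiv Z g).trans hZ
  have hdecomp : ∀ {x}, x ∉ Z → ∀ u, ∃ z ∈ Z, ∃ n : ℤ, z * x ^ n = u := by
    intro x hx u
    obtain ⟨z, hz, b, hb, hzb⟩ := Subgroup.mem_sup.1 ((htop hx).ge (Subgroup.mem_top u))
    obtain ⟨n, rfl⟩ := Subgroup.mem_zpowers_iff.1 hb
    exact ⟨z, hz, n, hzb⟩
  have hxp : ∀ x : X, x ^ p ∈ Z := fun x => hZ ▸ Subgroup.pow_index_mem Z x
  obtain ⟨t, ht, ht1⟩ := Subgroup.ne_bot_iff_exists_ne_one.1 hne |>.elim
    fun a ha => (⟨a.1, a.2, fun h => ha (Subtype.ext h)⟩ : ∃ t, t ∈ stab G Z ∧ t ≠ 1)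
  obtain ⟨y, hy⟩ : ∃ y, y ∉ Z := by
    by_contra hc
    push Not at hc
    exact hp.one_lt.ne' (hZ ▸ Subgroup.index_eq_one.2 (eq_top_iff.2 fun u _ => hc u))
  set l := y⁻¹ * t y with hl
  have hlZ : l ∈ Z := ht.2.2 y
  have hlB : ∀ g ∈ G, Z.map g.toMonoidHom ≠ Z → l ∉ Z.map g.toMonoidHom := fun g hg hgZ h =>
    ht1 (eq_one_of_commutator_mem hX hZ hmax hne hg hgZ ht hy h)
  have hlp : l ^ p = 1 := by
    have h1 := pow_apply_of_fix ht.2.1 hlZ p
    rw [← hl] at h1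
    have h2 : ∀ n : ℕ, t (y ^ n) = y ^ n * l ^ n := fun n => by
      rw [map_pow, ← mul_pow, hl, mul_inv_cancel_left]
    have h3 := ht.2.1 _ (hxp y)
    rw [h2] at h3
    exact mul_eq_left.1 h3
  have hl1 : l ≠ 1 := fun h => hlB γ hγ hB (h ▸ one_mem _)
  set l₁ := γ l with hl₁
  have hl₁B : l₁ ∈ B := ⟨l, hlZ, rfl⟩
  have hl₁Z : l₁ ∉ Z := fun h => by
    refine hlB γ⁻¹ (inv_mem hγ) ?_ ⟨γ l, h, MulAut.inv_apply_self _ γ l⟩
    intro e
    refine hB ?_
    conv_lhs => rw [hBdef, ← e]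
    ext u
    constructor
    · rintro ⟨_, ⟨v, hv, rfl⟩, rfl⟩
      simpa using hv
    · intro hu
      exact ⟨γ⁻¹ u, ⟨u, hu, rfl⟩, MulAut.apply_inv_self _ γ u⟩
  have hBZ : ¬ B ≤ Z := fun h => hl₁Z (h hl₁B)
  have hWrel : W.relIndex Z = p := by
    rw [hW, inf_comm, Subgroup.inf_relIndex_right]
    have h1 : B.relIndex Z ∣ B.index := Subgroup.relIndex_dvd_index_of_normal B Z
    rw [hindex γ] at h1
    refine (hp.eq_one_or_self_of_dvd _ h1).resolve_left fun h => ?_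
    exact hB (Subgroup.eq_of_le_of_card_ge (Subgroup.relIndex_eq_one.1 h)
      (le_of_eq (Subgroup.card_map_of_injective γ.injective))).symm
  have hlW : l ∉ W := fun h => hlB γ hγ hB h.2
  have hWl : W ⊔ Subgroup.zpowers l = Z := sup_zpowers_eq_of_relIndex inf_le_left hWrel hlZ hlW
  -- powers in the stabiliser
  have hpowt : ∀ (n : ℕ) (u : X), (t ^ n) u = u * (u⁻¹ * t u) ^ n := fun n u =>
    pow_apply_of_fix ht.2.1 (ht.2.2 u) n
  have hunit : ∀ {c : ℕ}, ¬ p ∣ c → ∀ {w : X}, w ^ p = 1 → ∀ d : ℕ, ∃ j : ℕ, (w ^ c) ^ j = w ^ d := by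
    intro c hc w hw d
    obtain ⟨j, hj⟩ : ∃ j, c * j ≡ d [MOD p] := by
      obtain ⟨m, hm⟩ := Nat.exists_mul_mod_eq_one_of_coprime
        ((hp.coprime_iff_not_dvd.2 hc).symm) hp.one_lt
      refine ⟨m * d, ?_⟩
      rw [← mul_assoc]
      conv_rhs => rw [← one_mul d]
      exact Nat.ModEq.mul_right d (by rw [Nat.ModEq, hm.2, Nat.mod_eq_of_lt hp.one_lt])
    exact ⟨j, by
      rw [← pow_mul]
      exact pow_eq_pow_iff_modEq.2 (hj.of_dvd (orderOf_dvd_of_pow_eq_one hw))⟩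
  have hnat : ∀ {x : X}, x ∉ Z → ∀ u, u ∉ Z → ∃ z ∈ Z, ∃ c : ℕ, ¬ p ∣ c ∧ z * x ^ c = u := by
    intro x hx u hu
    obtain ⟨z, hz, n, hn⟩ := hdecomp hx u
    obtain ⟨c, hc⟩ : ∃ c : ℕ, ∃ q : ℤ, n = c + p * q :=
      ⟨(n % p).toNat, n / p, by
        rw [Int.toNat_of_nonneg (Int.emod_nonneg _ (by exact_mod_cast hp.ne_zero)),
          Int.emod_add_mul_ediv]⟩
    obtain ⟨q, rfl⟩ := hc
    refine ⟨z * (x ^ p) ^ q, mul_mem hz (zpow_mem (hxp x) q), c, fun hd => hu ?_, ?_⟩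
    · obtain ⟨d, rfl⟩ := hd
      rw [← hn]
      refine mul_mem hz ?_
      rw [zpow_add, zpow_natCast, pow_mul, zpow_mul, zpow_natCast]
      exact mul_mem (pow_mem (hxp x) d) (zpow_mem (hxp x) q)
    · rw [← hn, zpow_add, zpow_natCast, zpow_mul, zpow_natCast, mul_assoc,
        mul_comm ((x ^ p) ^ q)]
  -- a power of `t` acting by `l₁ ↦ l₁ l`
  obtain ⟨z₀, hz₀, c, hc, hzc⟩ := hnat hy l₁ hl₁Z
  have htl₁ : l₁⁻¹ * t l₁ = l ^ c := by
    rw [← hzc, map_mul, map_pow, ht.2.1 z₀ hz₀, hl, mul_pow, inv_pow, mul_inv, mul_mul_mul_comm,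
      inv_mul_cancel, one_mul]
  obtain ⟨j, hj⟩ := hunit hc hlp 1
  set a := t ^ j with ha
  have hamem : a ∈ stab G Z := pow_mem ht j
  have hal₁ : a l₁ = l₁ * l := by rw [ha, hpowt, htl₁, hj, pow_one]
  have hapow : ∀ i : ℕ, (a ^ i) l₁ = l₁ * l ^ i := fun i => by
    rw [pow_apply_of_fix hamem.2.1 (hamem.2.2 l₁), hal₁, inv_mul_cancel_left]
  -- the conjugate acting by `l ↦ l l₁⁻¹`
  have hγl : γ⁻¹ l ∉ Z := fun h => hlB γ hγ hB ⟨γ⁻¹ l, h, MulAut.apply_inv_self _ γ l⟩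
  obtain ⟨z₁, hz₁, c', hc', hzc'⟩ := hnat hy (γ⁻¹ l) hγl
  have htγl : (γ⁻¹ l)⁻¹ * t (γ⁻¹ l) = l ^ c' := by
    rw [← hzc', map_mul, map_pow, ht.2.1 z₁ hz₁, hl, mul_pow, inv_pow, mul_inv, mul_mul_mul_comm,
      inv_mul_cancel, one_mul]
  obtain ⟨j', hj'⟩ := hunit hc' hlp (p - 1)
  set b := γ * t ^ j' * γ⁻¹ with hb
  have hbB : ∀ v ∈ B, b v = v := by
    rintro _ ⟨v, hv, rfl⟩
    simp only [hb, MulAut.mul_apply, MulEquiv.coe_toMonoidHom, MulAut.inv_apply_self]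
    rw [(pow_mem ht j').2.1 v hv]
  have hlinv : l ^ (p - 1) = l⁻¹ := by
    refine eq_inv_of_mul_eq_one_left ?_
    rw [← pow_succ, Nat.sub_add_cancel hp.pos, hlp]
  have hbl : b l = l * l₁⁻¹ := by
    simp only [hb, MulAut.mul_apply]
    rw [hpowt, htγl, hj', hlinv, map_mul, map_inv, MulAut.apply_inv_self]
  have hbG : b ∈ G := mul_mem (mul_mem hγ (pow_mem ht.1 j')) (inv_mem hγ)
  set w := a * b * a with hw
  have hwG : w ∈ G := mul_mem (mul_mem hamem.1 hbG) hamem.1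
  have hwW : ∀ v ∈ W, w v = v := fun v hv => by
    simp only [hw, MulAut.mul_apply]
    rw [hamem.2.1 v hv.1, hbB v hv.2, hamem.2.1 v hv.1]
  have hwl : w l = l₁⁻¹ := by
    simp only [hw, MulAut.mul_apply]
    rw [hamem.2.1 l hlZ, hbl, map_mul, map_inv, hal₁, hamem.2.1 l hlZ, mul_inv,
      mul_comm l₁⁻¹, ← mul_assoc, mul_inv_cancel, one_mul]
  have hwl₁ : w l₁ = l := by
    simp only [hw, MulAut.mul_apply]
    rw [hal₁, map_mul, hbl, hbB l₁ hl₁B, mul_comm l l₁⁻¹, mul_inv_cancel_left,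
      hamem.2.1 l hlZ]
  -- the orbit of `Z`
  have hneq : ∀ g ∈ G, Z.map g.toMonoidHom ≠ Z → ∃ i : ℕ, l₁ * l ^ i ∈ Z.map g.toMonoidHom := by
    intro g hg hgZ
    have hl' := hlB g hg hgZ
    obtain ⟨v, hv, q, hq, hvq⟩ := Subgroup.mem_sup.1
      ((sup_zpowers_eq_of_relIndex le_top (hrel (hindex g)) (Subgroup.mem_top l) hl').ge
        (Subgroup.mem_top l₁))
    obtain ⟨n, rfl⟩ := Subgroup.mem_zpowers_iff.1 hq
    refine ⟨((-n) % p).toNat, ?_⟩
    have : l ^ ((-n) % (p : ℤ)).toNat = l ^ (-n) := by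
      rw [← zpow_natCast, Int.toNat_of_nonneg (Int.emod_nonneg _ (by exact_mod_cast hp.ne_zero))]
      conv_rhs => rw [← Int.emod_add_mul_ediv (-n) p, zpow_add, zpow_mul, zpow_natCast l p, hlp,
        one_zpow, mul_one]
    rw [this, ← hvq, mul_assoc, ← zpow_add, add_neg_cancel, zpow_zero, mul_one]
    exact hv
  -- the only member of the orbit other than `Z` through `l₁ l ^ i` is `a ^ i B`
  have horbit : ∀ g ∈ G, Z.map g.toMonoidHom ≠ Z → ∃ i : ℕ,
      Z.map g.toMonoidHom = Z.map (a ^ i * γ).toMonoidHom := by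
    intro g hg hgZ
    obtain ⟨i, hi⟩ := hneq g hg hgZ
    refine ⟨i, ?_⟩
    by_contra hne'
    set d := a ^ i * γ with hd
    have hdG : d ∈ G := mul_mem (pow_mem hamem.1 i) hγ
    refine hlB (d⁻¹ * g) (mul_mem (inv_mem hdG) hg) (fun e => hne' ?_) ?_
    · ext u
      constructor
      · rintro ⟨v, hv, rfl⟩
        exact ⟨(d⁻¹ * g) v, e.le ⟨v, hv, rfl⟩, MulAut.apply_inv_self _ d (g v)⟩
      · rintro ⟨v, hv, rfl⟩
        obtain ⟨v', hv', hvv⟩ := e.ge hv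
        refine ⟨v', hv', ?_⟩
        rw [← hvv]
        exact (MulAut.apply_inv_self _ d (g v')).symm
    · obtain ⟨v, hv, hvi⟩ := hi
      refine ⟨v, hv, ?_⟩
      show d⁻¹ (g v) = l
      rw [show g v = d l by rw [hd, MulAut.mul_apply, ← hl₁, hapow]; exact hvi,
        MulAut.inv_apply_self]
  have hZeq : ∀ k : MulAut X, (∀ x ∈ Z, k x ∈ Z) → Z.map k.toMonoidHom = Z := fun k hk =>
    Subgroup.eq_of_le_of_card_ge (by rintro _ ⟨x, hx, rfl⟩; exact hk x hx)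
      (le_of_eq (Subgroup.card_map_of_injective k.injective).symm)
  -- returning to `Z` fixing `W`
  have hwZ : ∀ x ∈ Z, w x ∈ B := by
    intro x hx
    rw [← hWl] at hx
    obtain ⟨v, hv, q, hq, rfl⟩ := Subgroup.mem_sup.1 hx
    obtain ⟨n, rfl⟩ := Subgroup.mem_zpowers_iff.1 hq
    rw [map_mul, map_zpow, hwW v hv, hwl]
    exact mul_mem hv.2 (zpow_mem (inv_mem hl₁B) n)
  have hwB : ∀ x ∈ B, w⁻¹ x ∈ Z := by
    have e : Z.map w.toMonoidHom = B :=
      Subgroup.eq_of_le_of_card_ge (by rintro _ ⟨x, hx, rfl⟩; exact hwZ x hx)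
        (le_of_eq (by rw [Subgroup.card_map_of_injective (f := w.toMonoidHom) w.injective, hBdef,
          Subgroup.card_map_of_injective (f := γ.toMonoidHom) γ.injective]))
    intro x hx
    obtain ⟨v, hv, rfl⟩ := e.ge hx
    simpa using hv
  have hback : ∀ g ∈ G, ∃ h ∈ G, ((∀ x ∈ W, h x = x) ∧
      ∀ x ∈ Subgroup.zpowers l ⊔ Subgroup.zpowers l₁,
        h⁻¹ x ∈ Subgroup.zpowers l ⊔ Subgroup.zpowers l₁) ∧ ∀ x ∈ Z, h (g x) ∈ Z := by
    intro g hg
    by_cases hgZ : Z.map g.toMonoidHom = Z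
    · exact ⟨1, one_mem _, ⟨fun x _ => rfl, fun x hx => by simpa using hx⟩,
        fun x hx => hgZ.le ⟨x, hx, rfl⟩⟩
    obtain ⟨i, hi⟩ := horbit g hg hgZ
    refine ⟨w⁻¹ * (a ^ i)⁻¹, mul_mem (inv_mem hwG) (inv_mem (pow_mem hamem.1 i)),
      ⟨fun x hx => ?_, ?_⟩, fun x hx => ?_⟩
    · rw [MulAut.mul_apply]
      have h1 : (a ^ i)⁻¹ x = x := ((stab G Z).inv_mem (pow_mem hamem i)).2.1 x hx.1
      rw [h1]
      conv_lhs => rw [← hwW x hx, MulAut.inv_apply_self]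
    · have hle : Subgroup.zpowers l ⊔ Subgroup.zpowers l₁ ≤
          (Subgroup.zpowers l ⊔ Subgroup.zpowers l₁).comap (w⁻¹ * (a ^ i)⁻¹)⁻¹.toMonoidHom := by
        have hL := Subgroup.mem_zpowers l
        have hL₁ := Subgroup.mem_zpowers l₁
        refine sup_le (Subgroup.zpowers_le.2 ?_) (Subgroup.zpowers_le.2 ?_)
        · show (w⁻¹ * (a ^ i)⁻¹)⁻¹ l ∈ Subgroup.zpowers l ⊔ Subgroup.zpowers l₁
          rw [mul_inv_rev, inv_inv, inv_inv, MulAut.mul_apply, hwl, map_inv, hapow]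
          exact inv_mem (mul_mem (Subgroup.mem_sup_right hL₁)
            (pow_mem (Subgroup.mem_sup_left hL) i))
        · show (w⁻¹ * (a ^ i)⁻¹)⁻¹ l₁ ∈ Subgroup.zpowers l ⊔ Subgroup.zpowers l₁
          rw [mul_inv_rev, inv_inv, inv_inv, MulAut.mul_apply, hwl₁,
            (pow_mem hamem i).2.1 l hlZ]
          exact Subgroup.mem_sup_left hL
      exact fun x hx => hle hx
    · obtain ⟨v, ⟨v', hv', hvv'⟩⟩ :
          ∃ v, ∃ v' ∈ Z, γ v' = v ∧ (a ^ i) v = g x := by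
        obtain ⟨v', hv', hvv'⟩ := hi.le ⟨x, hx, rfl⟩
        exact ⟨γ v', v', hv', rfl, hvv'⟩
      rw [MulAut.mul_apply, ← hvv'.2, MulAut.inv_apply_self, ← hvv'.1]
      exact hwB _ ⟨v', hv', rfl⟩
  have hWfixZ : ∀ k ∈ G, (∀ x ∈ Z, k x ∈ Z) → ∀ x ∈ W, k x ∈ W := by
    intro k hk hkZ x hx
    refine ⟨hkZ x hx.1, ?_⟩
    have hkB : Z.map (k * γ).toMonoidHom ≠ Z := fun e => hB (by
      have hk' := hZeq k hkZ
      ext u
      constructor
      · rintro ⟨v, hv, rfl⟩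
        obtain ⟨v', hv', he⟩ := hk'.ge (show v ∈ Z from hv)
        have : (k * γ) v ∈ Z := e.le ⟨v, hv, rfl⟩
        obtain ⟨v'', hv'', he'⟩ := hk'.ge this
        have := k.injective he'
        exact this ▸ hv''
      · intro hu
        obtain ⟨v, hv, he⟩ := e.ge (hkZ u hu)
        exact ⟨v, hv, k.injective he⟩)
    obtain ⟨i, hi⟩ := horbit (k * γ) (mul_mem hk hγ) hkB
    obtain ⟨v, hv, rfl⟩ := hx.2
    obtain ⟨v', hv', he⟩ := hi.le ⟨v, hv, rfl⟩
    have he' : (a ^ i) (γ v') = k (γ v) := he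
    show k (γ v) ∈ B
    rw [← he']
    have h1 : k (γ v) ∈ Z := hkZ _ hx.1
    rw [← he'] at h1
    have h2 : γ v' ∈ Z := by
      have h3 := ((stab G Z).inv_mem (pow_mem hamem i)).2.1 _ h1
      rw [MulAut.inv_apply_self] at h3
      rw [h3]; exact h1
    rw [(pow_mem hamem i).2.1 _ h2]
    exact ⟨v', hv', rfl⟩
  have hstabmem : ∀ k ∈ stab G Z, ∀ u, u⁻¹ * k u ∈ Subgroup.zpowers l := by
    intro k hk u
    have hk2 := hk.2.2 y
    rw [← hWl] at hk2
    obtain ⟨v, hv, q, hq, hvq⟩ := Subgroup.mem_sup.1 hk2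
    obtain ⟨n, rfl⟩ := Subgroup.mem_zpowers_iff.1 hq
    obtain ⟨m, hm⟩ : ∃ m : ℕ, l ^ n = l ^ m := ⟨(n % p).toNat, by
      rw [← zpow_natCast, Int.toNat_of_nonneg (Int.emod_nonneg _ (by exact_mod_cast hp.ne_zero))]
      conv_lhs => rw [← Int.emod_add_mul_ediv n p, zpow_add, zpow_mul, zpow_natCast l p, hlp,
        one_zpow, mul_one]⟩
    have hmem : k * (t ^ m)⁻¹ ∈ stab G Z := mul_mem hk (inv_mem (pow_mem ht m))
    have hkt : k * (t ^ m)⁻¹ = 1 := by
      refine eq_one_of_commutator_mem hX hZ hmax hne hγ hB hmem hy ?_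
      have h1 : (t ^ m)⁻¹ y = y * (l ^ m)⁻¹ := by
        apply (t ^ m).injective
        rw [MulAut.apply_inv_self, map_mul, hpowt, ← hl, map_inv,
          (pow_mem ht m).2.1 _ (pow_mem hlZ m), mul_inv_cancel_right]
      rw [MulAut.mul_apply, h1, map_mul, map_inv, hk.2.1 _ (pow_mem hlZ m), ← mul_assoc, ← hvq,
        hm, mul_inv_cancel_right]
      exact hv.2
    rw [mul_inv_eq_one] at hkt
    rw [hkt, hpowt, inv_mul_cancel_left]
    obtain ⟨z, hz, d, hd⟩ := hdecomp hy u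
    rw [← hd, map_mul, map_zpow, ht.2.1 z hz, mul_inv, mul_mul_mul_comm, inv_mul_cancel, one_mul,
      ← inv_zpow, ← mul_zpow, ← hl]
    exact pow_mem (zpow_mem (Subgroup.mem_zpowers l) d) m
  have hcard : Nat.card (stab G Z) = p := by
    have htord : orderOf t = p := orderOf_eq_prime (MulEquiv.ext fun u => by
      rw [hpowt]
      obtain ⟨d, hd⟩ := Subgroup.mem_zpowers_iff.1 (hstabmem t ht u)
      rw [← hd, ← zpow_natCast, ← zpow_mul, mul_comm d, zpow_mul, zpow_natCast, hlp, one_zpow,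
        mul_one]
      rfl) ht1
    suffices stab G Z = Subgroup.zpowers t by rw [this, Nat.card_zpowers, htord]
    refine le_antisymm (fun k hk => ?_) (Subgroup.zpowers_le.2 ht)
    obtain ⟨d, hd⟩ := Subgroup.mem_zpowers_iff.1 (hstabmem k hk y)
    have hmem : k * (t ^ (d % p).toNat)⁻¹ ∈ stab G Z := mul_mem hk (inv_mem (pow_mem ht _))
    have : k * (t ^ (d % p).toNat)⁻¹ = 1 := by
      refine eq_one_of_commutator_mem hX hZ hmax hne hγ hB hmem hy ?_
      have hdl : l ^ (d % p).toNat = l ^ d := by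
        rw [← zpow_natCast, Int.toNat_of_nonneg (Int.emod_nonneg _ (by exact_mod_cast hp.ne_zero))]
        conv_rhs => rw [← Int.emod_add_mul_ediv d p, zpow_add, zpow_mul, zpow_natCast l p, hlp,
          one_zpow, mul_one]
      have h1 : (t ^ (d % p).toNat)⁻¹ y = y * (l ^ d)⁻¹ := by
        apply (t ^ (d % p).toNat).injective
        rw [MulAut.apply_inv_self, map_mul, hpowt, ← hl, hdl, map_inv,
          (pow_mem ht _).2.1 _ (zpow_mem hlZ d), mul_inv_cancel_right]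
      rw [MulAut.mul_apply, h1, map_mul, map_inv, hk.2.1 _ (zpow_mem hlZ d), ← mul_assoc, ← hd,
        mul_inv_cancel]
      exact one_mem _
    rw [mul_inv_eq_one] at this
    rw [this]
    exact Subgroup.npow_mem_zpowers t _
  have hEfixZ : ∀ k ∈ G, (∀ x ∈ Z, k x ∈ Z) → ∀ g ∈ G, Z.map g.toMonoidHom = Z →
      g l ∈ Subgroup.zpowers l := by
    intro _ _ _ g hg hgZ
    have hk : g * t * g⁻¹ ∈ stab G Z := by
      have hinv : ∀ z ∈ Z, g⁻¹ z ∈ Z := fun z hz => by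
        obtain ⟨v, hv, rfl⟩ := hgZ.ge hz
        simpa using hv
      refine ⟨mul_mem (mul_mem hg ht.1) (inv_mem hg), fun z hz => ?_, fun u => ?_⟩
      · rw [MulAut.mul_apply, MulAut.mul_apply, ht.2.1 _ (hinv z hz), MulAut.apply_inv_self]
      · have := hgZ.le ⟨_, ht.2.2 (g⁻¹ u), rfl⟩
        simpa using this
    have := hstabmem _ hk (g y)
    rw [MulAut.mul_apply, MulAut.mul_apply, MulAut.inv_apply_self, ← map_inv, ← map_mul] at this
    exact this
  have hgl : ∀ g ∈ G, g l ∈ Subgroup.zpowers l ⊔ Subgroup.zpowers l₁ := by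
    intro g hg
    by_cases hgZ : Z.map g.toMonoidHom = Z
    · exact Subgroup.mem_sup_left (hEfixZ 1 (one_mem _) (fun x hx => hx) g hg hgZ)
    obtain ⟨i, hi⟩ := horbit g hg hgZ
    set d := a ^ i * γ with hd
    have hdG : d ∈ G := mul_mem (pow_mem hamem.1 i) hγ
    have hfix : Z.map (d⁻¹ * g).toMonoidHom = Z := hZeq _ fun x hx => by
      obtain ⟨v, hv, he⟩ := hi.le ⟨x, hx, rfl⟩
      show d⁻¹ (g x) ∈ Z
      have he' : d v = g x := he
      rwa [← he', MulAut.inv_apply_self]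
    obtain ⟨n, hn⟩ := Subgroup.mem_zpowers_iff.1
      (hEfixZ 1 (one_mem _) (fun x hx => hx) _ (mul_mem (inv_mem hdG) hg) hfix)
    have h1 : g l = d (l ^ n) := by
      rw [hn]
      exact (MulAut.apply_inv_self _ d (g l)).symm
    rw [h1, map_zpow, hd, MulAut.mul_apply, ← hl₁, hapow]
    exact zpow_mem (mul_mem (Subgroup.mem_sup_right (Subgroup.mem_zpowers l₁))
      (pow_mem (Subgroup.mem_sup_left (Subgroup.mem_zpowers l)) i)) n
  refine ⟨W, l, l₁, ⟨hlZ, hl₁Z, inf_le_left, hlW, hlp, ?_, hWl, htop hl₁Z, ?_, hcard, hstabmem,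
    ⟨t, ht, y, rfl⟩, ?_, ?_, ?_, ?_⟩⟩
  · rw [hl₁, ← map_pow, hlp, map_one]
  · refine (Subgroup.eq_bot_iff_forall _).2 fun v ⟨hvW, hvE⟩ => ?_
    obtain ⟨v₁, hv₁, v₂, hv₂, rfl⟩ := Subgroup.mem_sup.1 hvE
    have hv₁Z : v₁ ∈ Z := Subgroup.zpowers_le.2 hlZ hv₁
    have hv₂B : v₂ ∈ B := Subgroup.zpowers_le.2 hl₁B hv₂
    have hv₂Z : v₂ ∈ Z := (Subgroup.mul_mem_cancel_left _ hv₁Z).1 hvW.1
    have hv₂p : v₂ = 1 := by
      have : Subgroup.zpowers l₁ ⊓ Z = ⊥ := by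
        have hc : Nat.card (Subgroup.zpowers l₁) = p := by
          rw [Nat.card_zpowers, hl₁, MulEquiv.orderOf_eq]
          exact orderOf_eq_prime hlp hl1
        have := Fact.mk (hc ▸ hp)
        rcases (Subgroup.eq_bot_or_eq_top_of_prime_card
          (Z.subgroupOf (Subgroup.zpowers l₁))) with h | h
        · rw [Subgroup.subgroupOf_eq_bot, disjoint_comm, disjoint_iff] at h
          exact h
        · exact absurd (Subgroup.subgroupOf_eq_top.1 h (Subgroup.mem_zpowers l₁)) hl₁Z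
      exact Subgroup.mem_bot.1 (this ▸ ⟨hv₂, hv₂Z⟩)
    subst hv₂p
    rw [mul_one] at hvW ⊢
    have hc : Nat.card (Subgroup.zpowers l) = p := by
      rw [Nat.card_zpowers]
      exact orderOf_eq_prime hlp hl1
    have := Fact.mk (hc ▸ hp)
    rcases (Subgroup.eq_bot_or_eq_top_of_prime_card (W.subgroupOf (Subgroup.zpowers l))) with h | h
    · rw [Subgroup.subgroupOf_eq_bot, disjoint_iff] at h
      exact Subgroup.mem_bot.1 (h ▸ ⟨hvW, hv₁⟩)
    · exact absurd (Subgroup.subgroupOf_eq_top.1 h (Subgroup.mem_zpowers l)) hlW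
  · intro g hg x hx
    obtain ⟨h, hh, ⟨hfix, -⟩, hZ'⟩ := hback g hg
    have h1 := hWfixZ (h * g) (mul_mem hh hg) (fun z hz => hZ' z hz) x hx
    rw [MulAut.mul_apply] at h1
    have h2 := hfix _ h1
    have := h.injective h2
    rwa [this] at h1
  · intro g hg
    have hle : Subgroup.zpowers l ⊔ Subgroup.zpowers l₁ ≤
        (Subgroup.zpowers l ⊔ Subgroup.zpowers l₁).comap g.toMonoidHom :=
      sup_le (Subgroup.zpowers_le.2 (hgl g hg)) (Subgroup.zpowers_le.2 (by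
        show g (γ l) ∈ Subgroup.zpowers l ⊔ Subgroup.zpowers l₁
        rw [← MulAut.mul_apply]
        exact hgl _ (mul_mem hg hγ)))
    exact fun x hx => hle hx
  · intro g hg
    obtain ⟨h, hh, ⟨hfix, -⟩, hZ'⟩ := hback g hg
    exact ⟨h, hh, hfix, hZ'⟩
  · exact ⟨w * w, mul_mem hwG hwG, fun x hx => by rw [MulAut.mul_apply, hwW x hx, hwW x hx],
      by rw [MulAut.mul_apply, hwl, map_inv, hwl₁],
      by rw [MulAut.mul_apply, hwl₁, hwl]⟩

end CfsgLib.FusionIndexP
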